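import Cfsg.Agent.Lib.Helper28.BG12b
import Cfsg.Agent.Lib.Helper58.BG12a

/-!
B-G section 14: conjugation invariance of `σ(M)`, `M_σ`; Lemma A (embedding of `N_G(X)`), and the
context of Theorem 14.4, from the texts of S1378, S1416-S1418, S1432.
-/

set_option autoImplicit false

namespace Cfsg.Agent.Lib.Helper24.BG14

open Subgroup Cfsg.Agent.Lib.Helper30 Cfsg.Agent.Lib.Helper2 Cfsg.Agent.Lib.Helper68
  Cfsg.Agent.Lib.Helper28.BG12

universe u

variable {G : Type u} [Group G]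

/-! ### texts -/

/-- second part of the text of S1378. -/
def T1378 (G : Type u) [Group G] : Prop :=
  ∀ M N : Subgroup G, IsCoatom M → IsCoatom N → (Cfsg.sigma M ∩ Cfsg.sigma N).Nonempty →
    ∃ g : G, N = M.map (MulAut.conj g).toMonoidHom

/-- text of S1432. -/
def T1432 (G : Type u) [Group G] : Prop :=
  ∀ (M : Subgroup G), IsCoatom M → ∀ (x : G), x ∈ Cfsg.sigmaCore M → x ≠ 1 → ∀ (x' : G),
    x' ∈ M ⊓ Subgroup.centralizer ({x} : Set G) → x' ≠ 1 →
    (∀ p : ℕ, p.Prime → p ∣ orderOf x' → p ∉ Cfsg.sigma M) →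
    ((∀ p : ℕ, p.Prime → p ∣ orderOf x' → p ∈ Cfsg.kappa M) ∧
        Subgroup.centralizer ({x} : Set G) ≤ M) ∨
      ((∀ p : ℕ, p.Prime → p ∣ orderOf x' → p ∈ Cfsg.tau2 M) ∧
        (∃ L : Subgroup G, IsCoatom L ∧ ∀ p : ℕ, p.Prime → p ∣ orderOf x' → p ∈ Cfsg.sigma L) ∧
        (Subgroup.centralizer ({x'} : Set G) ≤ M ∧
          ∀ L : Subgroup G, IsCoatom L → Subgroup.centralizer ({x'} : Set G) ≤ L → L = M))

/-! ### conjugation invariance -/

theorem isCoatom_cj {M : Subgroup G} (hM : IsCoatom M) (g : G) : IsCoatom (cj g M) :=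
  Cfsg.Agent.Lib.Helper58.BG9.isCoatom_cj hM g

theorem normalizer_cj (g : G) (X : Subgroup G) :
    normalizer ((cj g X : Subgroup G) : Set G) = cj g (normalizer (X : Set G)) := by
  ext y
  rw [mem_cj, mem_normalizer_iff, mem_normalizer_iff]
  constructor
  · intro h z
    have := h (g * z * g⁻¹)
    rw [mem_cj, mem_cj] at this
    have e1 : g⁻¹ * (g * z * g⁻¹) * g = z := by group
    have e2 : g⁻¹ * (y * (g * z * g⁻¹) * y⁻¹) * g = g⁻¹ * y * g * z * (g⁻¹ * y * g)⁻¹ := by group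
    rwa [e1, e2] at this
  · intro h z
    have := h (g⁻¹ * z * g)
    rw [mem_cj, mem_cj]
    have e2 : g⁻¹ * (y * z * y⁻¹) * g = g⁻¹ * y * g * (g⁻¹ * z * g) * (g⁻¹ * y * g)⁻¹ := by group
    rwa [e2]

theorem sigma_cj_le [Finite G] (M : Subgroup G) (g : G) : Cfsg.sigma M ⊆ Cfsg.sigma (cj g M) := by
  intro p hp
  have : Fact p.Prime := ⟨hp.1⟩
  obtain ⟨P, hP, hN⟩ := exists_sylow_of_mem_sigma hp
  have hP1 : P ≠ ⊥ := by
    rintro rfl
    have h1 := hP.not_dvd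
    rw [relIndex_bot_left] at h1
    exact h1 hp.2.1
  apply mem_sigma_of_normalizer_le (hP.cj g)
  · intro h
    apply hP1
    have := congrArg (cj g⁻¹) h
    rw [cj_inv_cj] at this
    rw [this]
    exact Subgroup.map_bot _
  · rw [normalizer_cj]
    exact cj_mono g hN

theorem sigma_cj [Finite G] (M : Subgroup G) (g : G) : Cfsg.sigma (cj g M) = Cfsg.sigma M := by
  apply Set.Subset.antisymm
  · have := sigma_cj_le (cj g M) g⁻¹
    rwa [cj_inv_cj] at this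
  · exact sigma_cj_le M g

theorem sigmaCore_cj [Finite G] (hG : Cfsg.IsMinSimpleOddOrder G) {M : Subgroup G}
    (hM : IsCoatom M) (g : G) : Cfsg.sigmaCore (cj g M) = cj g (Cfsg.sigmaCore M) := by
  symm
  apply (Cfsg.Agent.S1350.result hG (cj g M) (isCoatom_cj hM g)).2.2
  · rw [normalizer_cj]
    exact cj_mono g (le_normalizer_sigmaCore M)
  · have := Cfsg.Agent.Lib.Helper66.isPiHallOf_cj (sigmaCore_hall hG hM) g
    rw [sigma_cj]
    exact this

/-! ### general facts -/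

/-- an element of `M` whose order only involves primes of `σ(M)` lies in `M_σ`. -/
theorem mem_sigmaCore_of_order [Finite G] (hG : Cfsg.IsMinSimpleOddOrder G) {M : Subgroup G}
    (hM : IsCoatom M) {x : G} (hxM : x ∈ M)
    (hx : ∀ p : ℕ, p.Prime → p ∣ orderOf x → p ∈ Cfsg.sigma M) : x ∈ Cfsg.sigmaCore M := by
  have hS := sigmaCore_hall hG hM
  have hcop : (orderOf (⟨x, hxM⟩ : M)).Coprime (Cfsg.piCore (Cfsg.sigma M) M).index := by
    apply Nat.coprime_of_dvd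
    intro k hk h1 h2
    have h3 : k ∣ orderOf x := by
      rwa [← Subgroup.orderOf_coe] at h1
    apply hS.2.2 k hk (hx k hk h3)
    have : (Cfsg.sigmaCore M).relIndex M = (Cfsg.piCore (Cfsg.sigma M) M).index := by
      rw [relIndex, Cfsg.sigmaCore, subgroupOf, comap_map_eq_self_of_injective M.subtype_injective]
    rwa [this]
  have := Cfsg.Agent.Lib.Helper40.BG12.mem_of_normal_of_coprime (N := Cfsg.piCore (Cfsg.sigma M) M)
    (x := ⟨x, hxM⟩) hcop
  exact ⟨⟨x, hxM⟩, this, rfl⟩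

theorem prime_mem_sigma_of_dvd_order [Finite G] (hG : Cfsg.IsMinSimpleOddOrder G) {M : Subgroup G}
    (hM : IsCoatom M) {x : G} (hx : x ∈ Cfsg.sigmaCore M) {p : ℕ} (hp : p.Prime)
    (hpx : p ∣ orderOf x) : p ∈ Cfsg.sigma M := by
  apply (sigmaCore_hall hG hM).2.1 p hp
  have : orderOf x = orderOf (⟨x, hx⟩ : Cfsg.sigmaCore M) := (Subgroup.orderOf_mk x hx).symm
  rw [this] at hpx
  exact hpx.trans (orderOf_dvd_natCard _)

/-- non-conjugate maximal subgroups have disjoint `σ`. -/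
theorem not_mem_sigma_of_nconj (h78 : T1378 G) {M N : Subgroup G} (hM : IsCoatom M)
    (hN : IsCoatom N) (hnc : ∀ g : G, N ≠ cj g M) {p : ℕ} (hp : p ∈ Cfsg.sigma M) :
    p ∉ Cfsg.sigma N := by
  intro h
  obtain ⟨g, hg⟩ := h78 M N hM hN ⟨p, hp, h⟩
  exact hnc g hg

/-- a maximal subgroup is self-normalizing. -/
theorem normalizer_coatom (hG : Cfsg.IsMinSimpleOddOrder G) {M : Subgroup G} (hM : IsCoatom M)
    (hM1 : M ≠ ⊥) : normalizer (M : Set G) = M := by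
  rcases hM.le_iff.mp (le_normalizer (H := M)) with h | h
  · exact absurd h (normalizer_ne_top hG hM1 hM.1)
  · exact h

/-- if `q ∈ σ(M)` and an elementary abelian `q`-subgroup of order `q ^ 2` of `M` lies in a conjugate
of `M`, then this conjugate is `M`. -/
theorem cj_eq_of_ea_le [Finite G] (hG : Cfsg.IsMinSimpleOddOrder G) (h16 : T1416 G)
    {M : Subgroup G} (hM : IsCoatom M) {q : ℕ} [Fact q.Prime] (hq : q ∈ Cfsg.sigma M)
    {A : Subgroup G} (hAM : A ≤ M) (hA : Cfsg.IsElementaryAbelian q A) (hc : Nat.card A = q ^ 2)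
    {h : G} (hAh : A ≤ cj h M) : h ∈ M := by
  have hA1 : A ≠ ⊥ := by
    rintro rfl
    rw [Subgroup.card_bot] at hc
    exact absurd hc.symm (Nat.one_lt_pow (by norm_num) (Fact.out : q.Prime).one_lt).ne'
  have h1 : cj h⁻¹ A ≤ M := by
    rw [cj_le_iff, inv_inv]; exact hAh
  obtain ⟨m, hm, c, hcc, e⟩ :=
    (Cfsg.Agent.S1404.result hG M hM q hq A (ea_isPGroup hA) hA1 hAM).1 h⁻¹ h1
  have h2 : h⁻¹ ∈ M := e ▸ M.mul_mem hm (h16 M hM q A ⟨hAM, hA, hc⟩ hcc)
  simpa using M.inv_mem h2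

/-! ### Lemma A -/

/-- **Lemma A** (B-G 12.15 with the `σ`-partition): `q ∈ σ(M)`, `X ≠ 1` a `q`-subgroup of `M`,
`N ≠ M` a maximal subgroup containing `N_G(X)`. -/
theorem lemmaA [Finite G] (hG : Cfsg.IsMinSimpleOddOrder G) (h16 : T1416 G) (h17 : T1417 G)
    (h18 : T1418 G) (h78 : T1378 G) {M N : Subgroup G} (hM : IsCoatom M) (hN : IsCoatom N)
    (hne : N ≠ M) {q : ℕ} [hqq : Fact q.Prime] (hq : q ∈ Cfsg.sigma M) {X : Subgroup G}
    (hXq : IsPGroup q X) (hX1 : X ≠ ⊥) (hXM : X ≤ M) (hNX : normalizer (X : Set G) ≤ N) :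
    (∀ g : G, N ≠ cj g M) ∧ q ∈ Cfsg.tau2 N ∧ Cfsg.sigmaCore N ⊓ M = ⊥ ∧
      Cfsg.IsComplIn (M ⊓ N) (Cfsg.sigmaCore N) N ∧
      ∃ A : Subgroup G, A ≤ M ⊓ N ∧ Cfsg.IsElementaryAbelian q A ∧ Nat.card A = q ^ 2 := by
  have h16' : Cfsg.Agent.Lib.Helper58.BG12.C16 G := fun M hM p _ A hAM hA hc =>
    h16 M hM p A ⟨hAM, hA, hc⟩
  have hXN : X ≤ N := le_normalizer.trans hNX
  obtain ⟨S, hS, hXS⟩ := exists_isSylowIn_ge (le_inf hXM hXN) hXq
  obtain ⟨ha, hb, hc⟩ := Cfsg.Agent.Lib.Helper58.BG12.bg1215 hG h16' hM hq hXq hX1 hXM hN hne hNX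
    hS hXS
  have hqN : q ∉ Cfsg.sigma N := not_mem_sigma_of_nconj h78 hM hN ha hq
  have hS1 : S ≠ ⊥ := fun h => hX1 (le_bot_iff.mp (h ▸ hXS))
  have hSN : IsSylowIn q S N := ⟨hS.le.trans inf_le_right, hS.isPGroup, hc⟩
  have hnc : ¬ IsCyclic S := by
    intro hcyc
    apply hqN
    exact mem_sigma_of_normalizer_le hSN hS1
      ((Cfsg.Agent.Lib.Helper58.BG12.normalizer_le_normalizer_of_isCyclic hcyc hXS).trans hNX)
  obtain ⟨A, hAS, hA, hAc⟩ := exists_ea_sq_of_not_cyclic (ne_two_of_isPGroup hG hS.isPGroup hS1)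
    hS.isPGroup hnc
  have hAM : A ≤ M := hAS.trans (hS.le.trans inf_le_left)
  have hAN : A ≤ N := hAS.trans (hS.le.trans inf_le_right)
  have ht : q ∈ Cfsg.tau2 N := by
    refine ⟨hqq.out, hqN, pRankLE_two_of_not_mem_sigma hG hN hqq.out hqN, ?_⟩
    apply not_pRankLE_of_elementary hAN hA
    rw [hAc]
    exact Nat.pow_lt_pow_right hqq.out.one_lt (by norm_num)
  have hdisj : Cfsg.sigmaCore N ⊓ M = ⊥ :=
    (h17 N hN q ht A ⟨hAN, hA, hAc⟩).2.2.2.2.1 M hM hne.symm hAM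
  have hA1 : A ≠ ⊥ := by
    rintro rfl
    rw [Subgroup.card_bot] at hAc
    exact absurd hAc.symm (Nat.one_lt_pow (by norm_num) hqq.out.one_lt).ne'
  have hNA : normalizer (A : Set G) ≤ M := by
    rw [(Cfsg.Agent.S1404.result hG M hM q hq A (ea_isPGroup hA) hA1 hAM).2]
    exact sup_le inf_le_left (h16 M hM q A ⟨hAM, hA, hAc⟩)
  obtain ⟨E, hE, hAE⟩ := exists_compl_ge hG hN hAN (fun r hr hrd => by
    rw [prime_dvd_card_isPGroup (ea_isPGroup hA) hr hrd]; exact hqN)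
  have hEeq : N ⊓ normalizer (A : Set G) = E := (h18 N hN E hE q ht A ⟨hAE, hA, hAc⟩).2.1.2.1
  have hEM : E ≤ M := by
    rw [← hEeq]; exact inf_le_right.trans hNA
  have hMN : M ⊓ N = E := by
    apply le_antisymm
    · intro m hm
      obtain ⟨e, he, s, hs, rfl⟩ := hE.2.2.2 m hm.2
      have hsM : s ∈ M := by
        have : s = e⁻¹ * (e * s) := by group
        rw [this]; exact M.mul_mem (M.inv_mem (hEM he)) hm.1
      have : s ∈ Cfsg.sigmaCore N ⊓ M := ⟨hs, hsM⟩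
      rw [hdisj, mem_bot] at this
      rw [this, mul_one]; exact he
    · exact le_inf hEM hE.1
  exact ⟨ha, ht, hdisj, hMN ▸ hE, A, le_inf hAM hAN, hA, hAc⟩

end Cfsg.Agent.Lib.Helper24.BG14
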