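import Cfsg.Agent.Lib.Helper24.BG14C
import Cfsg.Agent.Lib.Helper29.Cores

/-!
Statements S1374 and S1375 (B-G Theorem 14.4) from the texts.
-/

set_option autoImplicit false

namespace Cfsg.Agent.Lib.Helper24.BG14

open Subgroup Cfsg.Agent.Lib.Helper30 Cfsg.Agent.Lib.Helper2 Cfsg.Agent.Lib.Helper68
  Cfsg.Agent.Lib.Helper28.BG12

universe u

variable {G : Type u} [Group G]

/-- second part of the text of S1352. -/
def T1352 (G : Type u) [Group G] : Prop :=
  ∀ (M : Subgroup G), IsCoatom M → ∀ K U : Subgroup G, Cfsg.IsSigmaDecomposition M K U →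
    M ≤ Subgroup.normalizer ((U ⊔ Cfsg.sigmaCore M : Subgroup G) : Set G)

/-- `M_F ≤ M_σ`. -/
theorem fittingHallOf_le_sigmaCore [Finite G] (hG : Cfsg.IsMinSimpleOddOrder G) {M : Subgroup G}
    (hM : IsCoatom M) : Cfsg.fittingHallOf M ≤ Cfsg.sigmaCore M := by
  apply Subgroup.map_mono
  apply sSup_le
  rintro K ⟨hKn, hKnil, hKc⟩
  apply le_piCore hKn
  intro p hp hpK
  have : Fact p.Prime := ⟨hp⟩
  obtain ⟨P⟩ : Nonempty (Sylow p K) := inferInstance
  have hall : ∀ (p : ℕ) (_hp : Fact p.Prime) (P : Sylow p K), (P : Subgroup K).Normal :=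
    ((Group.isNilpotent_of_finite_tfae (G := K)).out 0 3).mp hKnil
  have hPn : (P : Subgroup K).Normal := hall p inferInstance P
  have hPc : (P : Subgroup K).Characteristic := Sylow.characteristic_of_normal P hPn
  have hQn : ((P : Subgroup K).map K.subtype).Normal :=
    ConjAct.normal_of_characteristic_of_normal
  set Q : Subgroup G := ((P : Subgroup K).map K.subtype).map M.subtype with hQ
  have hQM : Q ≤ M := map_subtype_le _
  have hMQ : M ≤ normalizer (Q : Set G) :=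
    Cfsg.Agent.Lib.Helper28.le_normalizer_map_subtype hQn
  have hQp : IsPGroup p Q := (P.2.map _).map _
  have hQc : Nat.card Q = Nat.card (P : Subgroup K) := by
    rw [hQ, card_map_of_injective M.subtype_injective, card_map_of_injective K.subtype_injective]
  have hQ1 : Q ≠ ⊥ := by
    intro h
    rw [h, Subgroup.card_bot] at hQc
    have := P.dvd_card_of_dvd_card hpK
    rw [← hQc] at this
    exact hp.one_lt.ne' (Nat.dvd_one.mp this)
  have hQtop : Q ≠ ⊤ := fun h => hM.1 (top_le_iff.mp (h ▸ hQM))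
  have hN : normalizer (Q : Set G) = M := by
    rcases hM.le_iff.mp hMQ with h | h
    · exact absurd h (normalizer_ne_top hG hQ1 hQtop)
    · exact h
  refine mem_sigma_of_normalizer_le (P := Q) ⟨hQM, hQp, ?_⟩ hQ1 hN.le
  intro hd
  have h1 : Nat.card M = Nat.card Q * Q.relIndex M := card_eq_card_mul_relIndex hQM
  have h2 : Nat.card M = Nat.card K * K.index := (K.card_mul_index).symm
  have h3 : Nat.card K = Nat.card (P : Subgroup K) * (P : Subgroup K).index :=
    ((P : Subgroup K).card_mul_index).symm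
  have h4 : Q.relIndex M = (P : Subgroup K).index * K.index := by
    have h5 : Nat.card Q * Q.relIndex M = Nat.card Q * ((P : Subgroup K).index * K.index) := by
      rw [← h1, h2, h3, hQc, mul_assoc]
    exact Nat.eq_of_mul_eq_mul_left Nat.card_pos h5
  rw [h4] at hd
  rcases (Nat.Prime.dvd_mul hp).mp hd with h | h
  · exact P.not_dvd_index h
  · exact hp.one_lt.ne' (Nat.dvd_one.mp (hKc ▸ Nat.dvd_gcd hpK h))

/-- `M_σ = M_F` when `M_σ` is nilpotent. -/
theorem sigmaCore_eq_fittingHallOf [Finite G] (hG : Cfsg.IsMinSimpleOddOrder G) {M : Subgroup G}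
    (hM : IsCoatom M) (hnil : Group.IsNilpotent (Cfsg.sigmaCore M)) :
    Cfsg.sigmaCore M = Cfsg.fittingHallOf M := by
  apply le_antisymm _ (fittingHallOf_le_sigmaCore hG hM)
  apply Subgroup.map_mono
  apply le_sSup
  refine ⟨inferInstance, ?_, ?_⟩
  · exact (Group.isNilpotent_congr
      ((Cfsg.piCore (Cfsg.sigma M) M).equivMapOfInjective M.subtype M.subtype_injective)).mpr hnil
  · have hS := sigmaCore_hall hG hM
    have e1 : Nat.card (Cfsg.sigmaCore M) = Nat.card (Cfsg.piCore (Cfsg.sigma M) M) :=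
      card_map_of_injective M.subtype_injective
    have e2 : (Cfsg.sigmaCore M).relIndex M = (Cfsg.piCore (Cfsg.sigma M) M).index := by
      rw [relIndex, Cfsg.sigmaCore, subgroupOf, comap_map_eq_self_of_injective M.subtype_injective]
    rw [← e1, ← e2]
    exact Nat.coprime_of_dvd (fun k hk h1 h2 => hS.2.2 k hk (hS.2.1 k hk h1) h2)

theorem Ctx.isComplIn {M N : Subgroup G} {x : G} (hc : Ctx M N x) (hxM : x ∈ M) :
    Cfsg.IsComplIn (M ⊓ centralizer ({x} : Set G))
      (Cfsg.sigmaCore N ⊓ centralizer ({x} : Set G)) (centralizer ({x} : Set G)) := by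
  have hxC : x ∈ centralizer ({x} : Set G) := mem_centralizer_singleton_iff.mpr rfl
  refine ⟨inf_le_right, inf_le_right, ?_, ?_⟩
  · rw [eq_bot_iff, ← hc.disj]
    exact fun y hy => ⟨hy.2.1, hy.1.1⟩
  · intro c hcc
    obtain ⟨e, he, s, hs, rfl⟩ := exists_decomp hc.compl (le_normalizer_sigmaCore N)
      (x := x) ⟨hxM, hc.cent_le hxC⟩ (hc.cent_le hcc) hcc
    exact ⟨e, ⟨he.1.1, he.2⟩, s, hs, rfl⟩

theorem Ctx.le_normalizer {M N : Subgroup G} {x : G} (hc : Ctx M N x) :
    centralizer ({x} : Set G) ≤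
      normalizer ((Cfsg.sigmaCore N ⊓ centralizer ({x} : Set G) : Subgroup G) : Set G) :=
  le_normalizer_inf (hc.cent_le.trans (le_normalizer_sigmaCore N)) Subgroup.le_normalizer

theorem S1374_of [Finite G] (hG : Cfsg.IsMinSimpleOddOrder G) (h16 : T1416 G) (h17 : T1417 G)
    (h18 : T1418 G) (h78 : T1378 G) (h32 : T1432 G) (M : Subgroup G) (hM : IsCoatom M) (x : G)
    (hx : x ∈ Cfsg.sigmaCore M) (hx1 : x ≠ 1) :
    (Nat.card ↥(M ⊓ Subgroup.centralizer ({x} : Set G))).Coprime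
        ((M ⊓ Subgroup.centralizer ({x} : Set G)).relIndex (Subgroup.centralizer ({x} : Set G))) ∧
      ∃ R : Subgroup G, Subgroup.centralizer ({x} : Set G) ≤ Subgroup.normalizer (R : Set G) ∧
        Cfsg.IsComplIn (M ⊓ Subgroup.centralizer ({x} : Set G)) R
          (Subgroup.centralizer ({x} : Set G)) ∧
        ∀ g : G, x ∈ M.map (MulAut.conj g).toMonoidHom →
          ∃! r : G, r ∈ R ∧ M.map (MulAut.conj r).toMonoidHom = M.map (MulAut.conj g).toMonoidHom := by
  by_cases hC : centralizer ({x} : Set G) ≤ M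
  · have e : M ⊓ centralizer ({x} : Set G) = centralizer ({x} : Set G) := inf_eq_right.mpr hC
    refine ⟨by rw [e, relIndex_self]; exact Nat.coprime_one_right _, ⊥, ?_, ?_, ?_⟩
    · intro c _
      rw [mem_normalizer_iff]
      intro h
      simp
    · exact ⟨inf_le_right, bot_le, inf_bot_eq _, fun m hm => ⟨m, ⟨hC hm, hm⟩, 1, one_mem _,
        (mul_one m).symm⟩⟩
    · intro g hg
      have h1 : cj g M = M := cj_eq_of_cent_le hG h16 h17 h18 h78 h32 hM hx hx1 hC g hg
      refine ⟨1, ⟨one_mem _, ?_⟩, fun r hr => mem_bot.mp hr.1⟩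
      change cj 1 M = cj g M
      rw [h1, cj_one]
  · obtain ⟨N, hc⟩ := exists_ctx hG h16 h17 h18 h78 h32 hM hx hx1 hC
    have hcompl := hc.isComplIn (sigmaCore_le M hx)
    refine ⟨?_, _, hc.le_normalizer, hcompl, fun g hg =>
      existsUnique_conj hG h16 h17 h18 h78 h32 hM hx hx1 hc g hg⟩
    rw [← card_compl' hcompl]
    have h1 : (Nat.card ↥(M ⊓ N)).Coprime (Nat.card (Cfsg.sigmaCore N)) := by
      have hE := isPiHallOf_compl hG hc.coatom hc.compl
      have hS := sigmaCore_hall hG hc.coatom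
      exact Nat.coprime_of_dvd (fun k hk h1 h2 => hE.2.1 k hk h1 (hS.2.1 k hk h2))
    exact Nat.Coprime.coprime_dvd_left
      (card_dvd_of_le (inf_le_inf_left M hc.cent_le))
      (Nat.Coprime.coprime_dvd_right (card_dvd_of_le inf_le_left) h1)

/-- an element of `N` of order prime to `|K|` lies in the normal subgroup `D` when `N = ⟨D, K⟩`. -/
theorem mem_of_coprime_of_sup [Finite G] {D N K : Subgroup G} (hDN : D ≤ N) (hKN : K ≤ N)
    (hnorm : N ≤ normalizer (D : Set G)) (hgen : N ≤ K ⊔ D) {x : G} (hx : x ∈ N)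
    (hcop : (orderOf x).Coprime (Nat.card K)) : x ∈ D := by
  have hn : (D.subgroupOf N).Normal := (normal_subgroupOf_iff_le_normalizer hDN).mpr hnorm
  have htop : K.subgroupOf N ⊔ D.subgroupOf N = ⊤ := by
    rw [← subgroupOf_sup hKN hDN, subgroupOf_eq_top]
    exact hgen
  have h1 : (D.subgroupOf N).index ∣ Nat.card K := by
    rw [← relIndex_top_right, ← htop, relIndex_sup_right, ← card_subgroupOf hKN]
    exact relIndex_dvd_card _ _
  have h2 : (orderOf (⟨x, hx⟩ : N)).Coprime (D.subgroupOf N).index := by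
    rw [Subgroup.orderOf_mk]
    exact Nat.Coprime.coprime_dvd_right h1 hcop
  exact mem_subgroupOf.mp (Cfsg.Agent.Lib.Helper40.BG12.mem_of_normal_of_coprime h2)

theorem Ctx.decomp_facts [Finite G] (hG : Cfsg.IsMinSimpleOddOrder G) (h52 : T1352 G)
    {M N : Subgroup G} {x : G} (hc : Ctx M N x) (hx1 : x ≠ 1) {K' U' : Subgroup G}
    (hd : Cfsg.IsSigmaDecomposition N K' U') :
    U' ≠ ⊥ ∧ x ∈ Cfsg.sigmaA N U' ∧ x ∉ Cfsg.sigmaCore N := by
  have hN := hc.coatom
  have hxC : x ∈ centralizer ({x} : Set G) := mem_centralizer_singleton_iff.mpr rfl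
  have hxN : x ∈ N := hc.cent_le hxC
  have ho : orderOf x ≠ 1 := fun h => hx1 (orderOf_eq_one_iff.mp h)
  have hgen : N ≤ K' ⊔ (U' ⊔ Cfsg.sigmaCore N) := by
    intro n hn
    obtain ⟨a, ha, b, hb, rfl⟩ := hd.compl.2.2.2 n hn
    refine mul_mem (mem_sup_right (mem_sup_left ha)) ?_
    exact (sup_le le_sup_left (le_sup_right.trans le_sup_right) :
      K' ⊔ Cfsg.sigmaCore N ≤ K' ⊔ (U' ⊔ Cfsg.sigmaCore N)) hb
  have hcop : (orderOf x).Coprime (Nat.card K') := by
    apply Nat.coprime_of_dvd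
    intro k hk h1 h2
    exact not_mem_kappa_of_mem_tau2 (hc.tau2 k hk h1) (hd.hall.2.1 k hk h2)
  have hxD : x ∈ U' ⊔ Cfsg.sigmaCore N :=
    mem_of_coprime_of_sup (sup_le hd.compl.1 (sigmaCore_le N)) hd.hall.1 (h52 N hN K' U' hd) hgen
      hxN hcop
  have hxS : x ∉ Cfsg.sigmaCore N := by
    intro h
    have hp := Nat.minFac_prime ho
    exact (hc.tau2 _ hp (Nat.minFac_dvd _)).2.1
      (prime_mem_sigma_of_dvd_order hG hN h hp (Nat.minFac_dvd _))
  refine ⟨?_, ⟨⟨hxN, ?_⟩, hxD⟩, hxS⟩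
  · rintro rfl
    rw [bot_sup_eq] at hxD
    exact hxS hxD
  · obtain ⟨y, hy1⟩ := (Subgroup.ne_bot_iff_exists_ne_one).mp hc.ne_bot
    refine ⟨y, y.2.1, fun h => hy1 (Subtype.ext h), ?_⟩
    exact (mem_centralizer_singleton_iff.mp y.2.2).symm

theorem Ctx.nilpotent [Finite G] (h17 : T1417 G) {M N : Subgroup G} {x : G} (hc : Ctx M N x) :
    Group.IsNilpotent (Cfsg.sigmaCore N) := by
  obtain ⟨q, A, hqp, -, ht, hA, hAe, hAc⟩ := hc.ea
  have : Fact q.Prime := ⟨hqp⟩
  exact (h17 N hc.coatom q ht A ⟨hA.trans inf_le_right, hAe, hAc⟩).1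

theorem S1375_of [Finite G] (hG : Cfsg.IsMinSimpleOddOrder G) (h16 : T1416 G) (h17 : T1417 G)
    (h18 : T1418 G) (h78 : T1378 G) (h32 : T1432 G) (h52 : T1352 G) (M : Subgroup G)
    (hM : IsCoatom M) (x : G) (hx : x ∈ Cfsg.sigmaCore M) (hx1 : x ≠ 1)
    (hxM : ¬ Subgroup.centralizer ({x} : Set G) ≤ M) :
    ∃ N : Subgroup G, (IsCoatom N ∧ Subgroup.centralizer ({x} : Set G) ≤ N) ∧
        (∀ L : Subgroup G, IsCoatom L → Subgroup.centralizer ({x} : Set G) ≤ L → L = N) ∧
        Cfsg.sigmaCore N = Cfsg.fittingHallOf N ∧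
        Subgroup.centralizer ({x} : Set G) ≤ Subgroup.normalizer
          ((Cfsg.sigmaCore N ⊓ Subgroup.centralizer ({x} : Set G) : Subgroup G) : Set G) ∧
        Cfsg.IsComplIn (M ⊓ Subgroup.centralizer ({x} : Set G))
          (Cfsg.sigmaCore N ⊓ Subgroup.centralizer ({x} : Set G))
          (Subgroup.centralizer ({x} : Set G)) ∧
        Cfsg.IsComplIn (M ⊓ N) (Cfsg.sigmaCore N) N ∧
        ∀ K' U' : Subgroup G, Cfsg.IsSigmaDecomposition N K' U' →
          U' ≠ ⊥ ∧ x ∈ Cfsg.sigmaA N U' ∧ x ∉ Cfsg.sigmaCore N := by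
  obtain ⟨N, hc⟩ := exists_ctx hG h16 h17 h18 h78 h32 hM hx hx1 hxM
  exact ⟨N, ⟨hc.coatom, hc.cent_le⟩, hc.uniq,
    sigmaCore_eq_fittingHallOf hG hc.coatom (hc.nilpotent h17), hc.le_normalizer,
    hc.isComplIn (sigmaCore_le M hx), hc.compl, fun K' U' hd => hc.decomp_facts hG h52 hx1 hd⟩

end Cfsg.Agent.Lib.Helper24.BG14
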