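import Cfsg.Agent.Lib.Helper24.BG14A

/-!
B-G Theorem 14.4: the context `Ctx M N x` for `x ∈ M_σ`, `C_G(x) ≰ M`.
-/

set_option autoImplicit false

namespace Cfsg.Agent.Lib.Helper24.BG14

open Subgroup Cfsg.Agent.Lib.Helper30 Cfsg.Agent.Lib.Helper2 Cfsg.Agent.Lib.Helper68
  Cfsg.Agent.Lib.Helper28.BG12

universe u

variable {G : Type u} [Group G]

theorem pRankLE_one_of_cyclic_sylow {H : Type*} [Group H] [Finite H] {q : ℕ} [hq : Fact q.Prime]
    (h : ∀ P : Sylow q H, IsCyclic P) : Cfsg.PRankLE q 1 H := by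
  intro E _ hE
  have hEp : IsPGroup q E := by
    intro x
    refine ⟨1, ?_⟩
    rw [pow_one]
    exact Subtype.ext (hE x x.2)
  obtain ⟨P, hP⟩ := hEp.exists_le_sylow
  have hc : IsCyclic P := h P
  have hcE : IsCyclic E := by
    have : IsCyclic (E.subgroupOf (P : Subgroup H)) := inferInstance
    exact isCyclic_of_surjective (subgroupOfEquivOfLe hP).toMonoidHom
      (subgroupOfEquivOfLe hP).surjective
  have h1 : Monoid.exponent E = Nat.card E := IsCyclic.exponent_eq_card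
  have h2 : Monoid.exponent E ∣ q := by
    apply Monoid.exponent_dvd_of_forall_pow_eq_one
    intro x
    exact Subtype.ext (hE x x.2)
  rw [pow_one, ← h1]
  exact Nat.le_of_dvd hq.out.pos h2

theorem not_mem_kappa_of_mem_tau2 [Finite G] {N : Subgroup G} {q : ℕ} (ht : q ∈ Cfsg.tau2 N) :
    q ∉ Cfsg.kappa N := by
  intro hk
  have : Fact q.Prime := ⟨ht.1⟩
  exact ht.2.2.2 (pRankLE_one_of_cyclic_sylow (fun P => (hk.2.2.2 P).1))

/-- the context of B-G Theorem 14.4. -/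
structure Ctx (M N : Subgroup G) (x : G) : Prop where
  coatom : IsCoatom N
  cent_le : centralizer ({x} : Set G) ≤ N
  nconj : ∀ g : G, N ≠ cj g M
  disj : Cfsg.sigmaCore N ⊓ M = ⊥
  compl : Cfsg.IsComplIn (M ⊓ N) (Cfsg.sigmaCore N) N
  tau2 : ∀ p : ℕ, p.Prime → p ∣ orderOf x → p ∈ Cfsg.tau2 N
  uniq : ∀ L : Subgroup G, IsCoatom L → centralizer ({x} : Set G) ≤ L → L = N
  ea : ∃ (q : ℕ) (A : Subgroup G), q.Prime ∧ q ∈ Cfsg.sigma M ∧ q ∈ Cfsg.tau2 N ∧ A ≤ M ⊓ N ∧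
    Cfsg.IsElementaryAbelian q A ∧ Nat.card A = q ^ 2
  ne_bot : Cfsg.sigmaCore N ⊓ centralizer ({x} : Set G) ≠ ⊥

/-- decomposition of `C_G(x)` when `x ∈ E`, `N = E N_σ ⊇ C_G(x)`. -/
theorem exists_decomp {E S N : Subgroup G} (hE : Cfsg.IsComplIn E S N)
    (hS : N ≤ normalizer (S : Set G)) {x : G} (hx : x ∈ E) {c : G} (hcN : c ∈ N)
    (hc : c ∈ centralizer ({x} : Set G)) :
    ∃ e ∈ E ⊓ centralizer ({x} : Set G), ∃ s ∈ S ⊓ centralizer ({x} : Set G), c = e * s := by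
  obtain ⟨e, he, s, hs, rfl⟩ := hE.2.2.2 c hcN
  rw [mem_centralizer_singleton_iff] at hc
  -- `s x s⁻¹ x⁻¹ = e⁻¹ x e x⁻¹`
  have h1 : s * x * s⁻¹ * x⁻¹ = e⁻¹ * x * e * x⁻¹ := by
    have : s * x * s⁻¹ = e⁻¹ * (e * s * x) * s⁻¹ := by group
    rw [this, hc]; group
  have h2 : s * x * s⁻¹ * x⁻¹ ∈ S := by
    have : s * x * s⁻¹ * x⁻¹ = s * (x * s⁻¹ * x⁻¹) := by group
    rw [this]
    exact S.mul_mem hs ((mem_normalizer_iff.mp (hS (hE.1 hx)) s⁻¹).mp (S.inv_mem hs))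
  have h3 : s * x * s⁻¹ * x⁻¹ ∈ E := by
    rw [h1]
    exact E.mul_mem (E.mul_mem (E.mul_mem (E.inv_mem he) hx) he) (E.inv_mem hx)
  have h4 : s * x * s⁻¹ * x⁻¹ ∈ E ⊓ S := ⟨h3, h2⟩
  rw [hE.2.2.1, mem_bot] at h4
  have hsx : s * x = x * s := by
    calc s * x = (s * x * s⁻¹ * x⁻¹) * (x * s) := by group
      _ = x * s := by rw [h4, one_mul]
  have hex : e * x = x * e := by
    calc e * x = (e * (x * s)) * s⁻¹ := by group
      _ = (e * (s * x)) * s⁻¹ := by rw [hsx]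
      _ = (e * s * x) * s⁻¹ := by group
      _ = (x * (e * s)) * s⁻¹ := by rw [hc]
      _ = x * e := by group
  exact ⟨e, ⟨he, mem_centralizer_singleton_iff.mpr hex⟩, s,
    ⟨hs, mem_centralizer_singleton_iff.mpr hsx⟩, rfl⟩

theorem exists_ctx [Finite G] (hG : Cfsg.IsMinSimpleOddOrder G) (h16 : T1416 G) (h17 : T1417 G)
    (h18 : T1418 G) (h78 : T1378 G) (h32 : T1432 G) {M : Subgroup G} (hM : IsCoatom M) {x : G}
    (hx : x ∈ Cfsg.sigmaCore M) (hx1 : x ≠ 1) (hxM : ¬ centralizer ({x} : Set G) ≤ M) :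
    ∃ N : Subgroup G, Ctx M N x := by
  have ho : orderOf x ≠ 1 := fun h => hx1 (orderOf_eq_one_iff.mp h)
  set q := (orderOf x).minFac with hqdef
  have hqq : Fact q.Prime := ⟨Nat.minFac_prime ho⟩
  have hqx : q ∣ orderOf x := Nat.minFac_dvd _
  have hq : q ∈ Cfsg.sigma M := prime_mem_sigma_of_dvd_order hG hM hx hqq.out hqx
  set z := x ^ (orderOf x / q) with hz
  have hzo : orderOf z = q := orderOf_pow_orderOf_div (orderOf_pos x).ne' hqx
  set X := zpowers z with hX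
  have hXc : Nat.card X = q := by rw [hX, Nat.card_zpowers, hzo]
  have hXq : IsPGroup q X := IsPGroup.of_card (n := 1) (by rw [hXc, pow_one])
  have hX1 : X ≠ ⊥ := by
    intro h
    rw [h, Subgroup.card_bot] at hXc
    exact hqq.out.one_lt.ne hXc
  have hxM' : x ∈ M := sigmaCore_le M hx
  have hXM : X ≤ M := by
    rw [hX, zpowers_le]; exact M.pow_mem hxM' _
  have hCX : centralizer ({x} : Set G) ≤ normalizer (X : Set G) := by
    intro c hc
    apply centralizer_le_normalizer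
    rw [mem_centralizer_iff]
    intro y hy
    obtain ⟨k, rfl⟩ := mem_zpowers_iff.mp hy
    rw [mem_centralizer_singleton_iff] at hc
    have h1 : Commute c x := hc
    exact ((h1.pow_right _).zpow_right k).eq.symm
  have hXtop : X ≠ ⊤ := by
    intro h
    exact hM.1 (top_le_iff.mp (h ▸ hXM))
  obtain ⟨N, hN, hNX⟩ := exists_coatom_ge (normalizer_ne_top hG hX1 hXtop)
  have hne : N ≠ M := by
    rintro rfl
    exact hxM (hCX.trans hNX)
  obtain ⟨ha, ht, hdisj, hcompl, A, hA, hAe, hAc⟩ :=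
    lemmaA hG h16 h17 h18 h78 hM hN hne hq hXq hX1 hXM hNX
  have hCN : centralizer ({x} : Set G) ≤ N := hCX.trans hNX
  have hxC : x ∈ centralizer ({x} : Set G) := mem_centralizer_singleton_iff.mpr rfl
  have hxE : x ∈ M ⊓ N := ⟨hxM', hCN hxC⟩
  -- a nontrivial element of `R`
  obtain ⟨c, hc, hcM⟩ := SetLike.not_le_iff_exists.mp hxM
  obtain ⟨e, he, s, hs, rfl⟩ := exists_decomp hcompl (le_normalizer_sigmaCore N) hxE (hCN hc) hc
  have hs1 : s ≠ 1 := by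
    rintro rfl
    rw [mul_one] at hcM
    exact hcM he.1.1
  have hσ : ∀ p : ℕ, p.Prime → p ∣ orderOf x → p ∉ Cfsg.sigma N := fun p hp hpx =>
    not_mem_sigma_of_nconj h78 hM hN ha (prime_mem_sigma_of_dvd_order hG hM hx hp hpx)
  have hxs : x ∈ N ⊓ centralizer ({s} : Set G) := by
    exact ⟨hxE.2, mem_centralizer_singleton_iff.mpr (mem_centralizer_singleton_iff.mp hs.2).symm⟩
  have hR : Cfsg.sigmaCore N ⊓ centralizer ({x} : Set G) ≠ ⊥ := by
    intro h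
    have := h ▸ hs
    exact hs1 (mem_bot.mp this)
  rcases h32 N hN s hs.1 hs1 x hxs hx1 hσ with ⟨hk, -⟩ | ⟨h2, -, -, hu⟩
  · exact absurd (hk q hqq.out hqx) (not_mem_kappa_of_mem_tau2 ht)
  · exact ⟨N, hN, hCN, ha, hdisj, hcompl, h2, hu, ⟨q, A, hqq.out, hq, ht, hA, hAe, hAc⟩, hR⟩

end Cfsg.Agent.Lib.Helper24.BG14
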