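import Cfsg.Agent.Lib.Helper24.BG14E

/-!
B-G 14.6: equivariance of `supportR`, and statement S1377 from an abstract counting lemma.
-/

set_option autoImplicit false

namespace Cfsg.Agent.Lib.Helper24.BG14

open Subgroup Cfsg.Agent.Lib.Helper30 Cfsg.Agent.Lib.Helper2 Cfsg.Agent.Lib.Helper68
  Cfsg.Agent.Lib.Helper28.BG12

universe u

variable {G : Type u} [Group G]

theorem centralizer_singleton_cj (y a : G) :
    centralizer ({y * a * y⁻¹} : Set G) = cj y (centralizer ({a} : Set G)) := by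
  ext c
  rw [mem_cj, mem_centralizer_singleton_iff, mem_centralizer_singleton_iff]
  constructor
  · intro h
    calc y⁻¹ * c * y * a = y⁻¹ * (c * (y * a * y⁻¹)) * y := by group
      _ = y⁻¹ * (y * a * y⁻¹ * c) * y := by rw [h]
      _ = a * (y⁻¹ * c * y) := by group
  · intro h
    calc c * (y * a * y⁻¹) = y * (y⁻¹ * c * y * a) * y⁻¹ := by group
      _ = y * (a * (y⁻¹ * c * y)) * y⁻¹ := by rw [h]
      _ = y * a * y⁻¹ * c := by group

theorem conj_ne_one {y a : G} (ha : a ≠ 1) : y * a * y⁻¹ ≠ 1 := by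
  intro h
  apply ha
  calc a = y⁻¹ * (y * a * y⁻¹) * y := by group
    _ = 1 := by rw [h]; group

/-- equivariance of `R(x)`. -/
theorem supportR_cj [Finite G] (hG : Cfsg.IsMinSimpleOddOrder G) (T : Texts G)
    {M : Subgroup G} (hM : IsCoatom M) {a : G} (ha : a ∈ Cfsg.sigmaCore M) (ha1 : a ≠ 1) (y : G) :
    Cfsg.supportR (cj y M) (y * a * y⁻¹) = cj y (Cfsg.supportR M a) := by
  by_cases hC : centralizer ({a} : Set G) ≤ M
  · rw [supportR_of_cent_le hC, supportR_of_cent_le]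
    · exact (Subgroup.map_bot _).symm
    · rw [centralizer_singleton_cj]; exact cj_mono y hC
  · obtain ⟨N, hc⟩ := exists_ctx hG T.h16 T.h17 T.h18 T.h78 T.h32 hM ha ha1 hC
    have hM₁ := isCoatom_cj hM y
    have ha₁ : y * a * y⁻¹ ∈ Cfsg.sigmaCore (cj y M) := by
      rw [sigmaCore_cj hG hM]; exact conj_mem_cj ha
    have hC₁ : ¬ centralizer ({y * a * y⁻¹} : Set G) ≤ cj y M := by
      rw [centralizer_singleton_cj]
      intro h
      apply hC
      have := cj_mono y⁻¹ h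
      rwa [cj_inv_cj, cj_inv_cj] at this
    obtain ⟨N₁, hc₁⟩ := exists_ctx hG T.h16 T.h17 T.h18 T.h78 T.h32 hM₁ ha₁ (conj_ne_one ha1) hC₁
    have hN₁ : cj y N = N₁ := hc₁.uniq _ (isCoatom_cj hc.coatom y) (by
      rw [centralizer_singleton_cj]; exact cj_mono y hc.cent_le)
    rw [supportR_of_ctx hG T.h17 hc, supportR_of_ctx hG T.h17 hc₁, ← hN₁,
      sigmaCore_cj hG hc.coatom, centralizer_singleton_cj, cj_inf]

/-- `R(x)` does not depend on the conjugate of `M` through `x`. -/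
theorem supportR_compat [Finite G] (hG : Cfsg.IsMinSimpleOddOrder G) (T : Texts G)
    {M : Subgroup G} (hM : IsCoatom M) {x : G} (hx : x ∈ Cfsg.sigmaCore M) (hx1 : x ≠ 1) {g : G}
    (hxg : x ∈ cj g M) : Cfsg.supportR (cj g M) x = Cfsg.supportR M x := by
  have hM₁ := isCoatom_cj hM g
  have hx₁ := mem_sigmaCore_cj hG hM hx hxg
  by_cases hC : centralizer ({x} : Set G) ≤ M
  · rw [cj_eq_of_cent_le hG T.h16 T.h17 T.h18 T.h78 T.h32 hM hx hx1 hC g hxg]
  · obtain ⟨N, hc⟩ := exists_ctx hG T.h16 T.h17 T.h18 T.h78 T.h32 hM hx hx1 hC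
    have hnC : ¬ centralizer ({x} : Set G) ≤ cj g M := by
      intro h
      exact hc.nconj g (hc.uniq _ hM₁ h).symm
    obtain ⟨N₁, hc₁⟩ := exists_ctx hG T.h16 T.h17 T.h18 T.h78 T.h32 hM₁ hx₁ hx1 hnC
    obtain rfl : N = N₁ := (hc.uniq N₁ hc₁.coatom hc₁.cent_le).symm
    rw [supportR_of_ctx hG T.h17 hc, supportR_of_ctx hG T.h17 hc₁]

/-- the regular action in terms of `supportR`. -/
theorem existsUnique_supportR [Finite G] (hG : Cfsg.IsMinSimpleOddOrder G) (T : Texts G)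
    {M : Subgroup G} (hM : IsCoatom M) {x : G} (hx : x ∈ Cfsg.sigmaCore M) (hx1 : x ≠ 1) (g : G)
    (hxg : x ∈ cj g M) : ∃! r : G, r ∈ Cfsg.supportR M x ∧ cj r M = cj g M := by
  by_cases hC : centralizer ({x} : Set G) ≤ M
  · rw [supportR_of_cent_le hC]
    refine ⟨1, ⟨one_mem _, ?_⟩, fun r hr => mem_bot.mp hr.1⟩
    rw [cj_eq_of_cent_le hG T.h16 T.h17 T.h18 T.h78 T.h32 hM hx hx1 hC g hxg, cj_one]
  · obtain ⟨N, hc⟩ := exists_ctx hG T.h16 T.h17 T.h18 T.h78 T.h32 hM hx hx1 hC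
    rw [supportR_of_ctx hG T.h17 hc]
    exact existsUnique_conj hG T.h16 T.h17 T.h18 T.h78 T.h32 hM hx hx1 hc g hxg

/-- the set `tildeOf` in equivariant form. -/
theorem tildeOf_eq [Finite G] (hG : Cfsg.IsMinSimpleOddOrder G) (T : Texts G)
    {M : Subgroup G} (hM : IsCoatom M) :
    Cfsg.tildeOf M ((Cfsg.sigmaCore M : Set G) \ {1}) =
      {t : G | ∃ y x : G, x ∈ cj y (Cfsg.sigmaCore M) ∧ x ≠ 1 ∧
        ∃ r ∈ Cfsg.supportR (cj y M) x, t = x * r} := by
  ext t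
  constructor
  · rintro ⟨a, ⟨ha, ha1⟩, r, hr, y, rfl⟩
    have ha1' : a ≠ 1 := ha1
    refine ⟨y, y * a * y⁻¹, conj_mem_cj ha, conj_ne_one ha1', y * r * y⁻¹, ?_, by group⟩
    rw [supportR_cj hG T hM ha ha1']
    exact conj_mem_cj hr
  · rintro ⟨y, x, hx, hx1, r, hr, rfl⟩
    have ha : y⁻¹ * x * y ∈ Cfsg.sigmaCore M := mem_cj.mp hx
    have ha1 : y⁻¹ * x * y ≠ 1 := by
      have := conj_ne_one (y := y⁻¹) hx1
      rwa [inv_inv] at this
    have e : y * (y⁻¹ * x * y) * y⁻¹ = x := by group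
    have h1 := supportR_cj hG T hM ha ha1 y
    rw [e] at h1
    rw [h1] at hr
    exact ⟨y⁻¹ * x * y, ⟨ha, ha1⟩, y⁻¹ * r * y, mem_cj.mp hr, y, by group⟩

/-- the abstract counting lemma (rung BG146 COUNT). -/
def CountLemma (G : Type u) [Group G] : Prop :=
  ∀ (M S : Subgroup G) (R : G → G → Subgroup G),
    (∀ g : G, cj g M = M → g ∈ M) →
    (∀ m ∈ M, cj m S = S) →
    (∀ y y' x : G, x ∈ cj y S → x ∈ cj y' S → x ≠ 1 → R y x = R y' x) →
    (∀ y x : G, x ∈ cj y S → x ≠ 1 → ∀ g : G, x ∈ cj g S →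
      ∃! r : G, r ∈ R y x ∧ cj r (cj y M) = cj g M) →
    (∀ y x : G, x ∈ cj y S → x ≠ 1 → ∀ r ∈ R y x, x ∈ cj r (cj y S)) →
    (∀ y x y' x' : G, x ∈ cj y S → x ≠ 1 → x' ∈ cj y' S → x' ≠ 1 → ∀ r ∈ R y x, ∀ r' ∈ R y' x',
      x * r = x' * r' → x = x') →
    Set.ncard {t : G | ∃ y x : G, x ∈ cj y S ∧ x ≠ 1 ∧ ∃ r ∈ R y x, t = x * r} =
      (Nat.card S - 1) * M.index

theorem S1377_of [Finite G] (hG : Cfsg.IsMinSimpleOddOrder G) (T : Texts G) (hcount : CountLemma G)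
    (M : Subgroup G) (hM : IsCoatom M) :
    Set.ncard (Cfsg.tildeOf M ((Cfsg.sigmaCore M : Set G) \ {1})) =
      (Nat.card (Cfsg.sigmaCore M) - 1) * M.index := by
  by_cases hS : Cfsg.sigmaCore M = ⊥
  · have : Cfsg.tildeOf M ((Cfsg.sigmaCore M : Set G) \ {1}) = ∅ := by
      rw [Set.eq_empty_iff_forall_notMem]
      rintro t ⟨a, ⟨ha, ha1⟩, -⟩
      rw [hS] at ha
      exact ha1 (mem_bot.mp ha)
    rw [this, hS]
    simp
  have hM1 : M ≠ ⊥ := by
    rintro rfl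
    exact hS (le_bot_iff.mp (sigmaCore_le ⊥))
  rw [tildeOf_eq hG T hM]
  have hσ : ∀ y : G, cj y (Cfsg.sigmaCore M) = Cfsg.sigmaCore (cj y M) := fun y =>
    (sigmaCore_cj hG hM y).symm
  apply hcount M (Cfsg.sigmaCore M) (fun y x => Cfsg.supportR (cj y M) x)
  · intro g hg
    have := mem_normalizer_of_cj_eq hg
    rwa [normalizer_coatom hG hM hM1] at this
  · intro m hm
    exact cj_eq_of_mem_normalizer (le_normalizer_sigmaCore M hm)
  · intro y y' x hx hx' hx1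
    rw [hσ] at hx hx'
    have h1 : x ∈ cj (y' * y⁻¹) (cj y M) := by
      rw [← cj_mul, inv_mul_cancel_right]; exact sigmaCore_le _ hx'
    have := supportR_compat hG T (isCoatom_cj hM y) hx hx1 h1
    rw [← cj_mul, inv_mul_cancel_right] at this
    exact this.symm
  · intro y x hx hx1 g hxg
    rw [hσ] at hx hxg
    have h1 : x ∈ cj (g * y⁻¹) (cj y M) := by
      rw [← cj_mul, inv_mul_cancel_right]; exact sigmaCore_le _ hxg
    have := existsUnique_supportR hG T (isCoatom_cj hM y) hx hx1 (g * y⁻¹) h1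
    rwa [← cj_mul (g * y⁻¹), inv_mul_cancel_right] at this
  · intro y x hx hx1 r hr
    have hx' := hx
    rw [hσ] at hx'
    have hc := (supportR_facts hG T (isCoatom_cj hM y) hx' hx1 hr).1
    rw [mem_cj]
    have : r⁻¹ * x * r = x := by
      rw [mul_assoc, hc.eq]; group
    rwa [this]
  · intro y x y' x' hx hx1 hx' hx1' r hr r' hr' heq
    rw [hσ] at hx hx'
    by_contra hne
    exact S1433_of hG T _ _ (isCoatom_cj hM y) (isCoatom_cj hM y') x x' hx hx' hx1 hx1' hne r hr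
      r' hr' heq

end Cfsg.Agent.Lib.Helper24.BG14
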