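import Cfsg.Agent.Lib.Helper24.BG14B

/-!
B-G Theorem 14.4: regular action of `R(x)` on the conjugates of `M` through `x`; statements S1374
and S1375 from the texts.
-/

set_option autoImplicit false

namespace Cfsg.Agent.Lib.Helper24.BG14

open Subgroup Cfsg.Agent.Lib.Helper30 Cfsg.Agent.Lib.Helper2 Cfsg.Agent.Lib.Helper68
  Cfsg.Agent.Lib.Helper28.BG12

universe u

variable {G : Type u} [Group G]

/-- two conjugates of `M` meeting `N` in complements of `N_σ`, both through `x`. -/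
theorem conj_of_compl [Finite G] (hG : Cfsg.IsMinSimpleOddOrder G) (h16 : T1416 G)
    {M N : Subgroup G} (hM : IsCoatom M) (hN : IsCoatom N) {q : ℕ} (hqp : q.Prime)
    (hq : q ∈ Cfsg.sigma M) {A : Subgroup G} (hA : A ≤ M ⊓ N)
    (hAe : Cfsg.IsElementaryAbelian q A) (hAc : Nat.card A = q ^ 2)
    (hE : Cfsg.IsComplIn (M ⊓ N) (Cfsg.sigmaCore N) N) {g : G}
    (hE₁ : Cfsg.IsComplIn (cj g M ⊓ N) (Cfsg.sigmaCore N) N) {x : G} (hx : x ∈ M ⊓ N)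
    (hx₁ : x ∈ cj g M) :
    ∃ u ∈ Cfsg.sigmaCore N ⊓ centralizer ({x} : Set G), cj u M = cj g M := by
  have : Fact q.Prime := ⟨hqp⟩
  obtain ⟨n, hn, e⟩ := Cfsg.Agent.Lib.Helper66.isPiHallOf_exists_conj (solvable_of_ne_top hG hN.1)
    (isPiHallOf_compl hG hN hE) (isPiHallOf_compl hG hN hE₁)
  obtain ⟨a, ha, b, hb, hab⟩ := hE.2.2.2 n⁻¹ (N.inv_mem hn)
  have hnab : n = b⁻¹ * a⁻¹ := by
    rw [← inv_inv n, hab]; group
  have e' : cj g M ⊓ N = cj b⁻¹ (M ⊓ N) := by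
    rw [e, hnab, cj_mul, cj_eq_of_mem ((M ⊓ N).inv_mem ha)]
  have hu : b⁻¹ ∈ Cfsg.sigmaCore N := (Cfsg.sigmaCore N).inv_mem hb
  have h1 : b⁻¹⁻¹ * x * b⁻¹ ∈ M ⊓ N := by
    rw [← mem_cj, ← e']; exact ⟨hx₁, hx.2⟩
  rw [inv_inv] at h1
  have h2 : b * x * b⁻¹ * x⁻¹ ∈ (M ⊓ N) ⊓ Cfsg.sigmaCore N := by
    refine ⟨(M ⊓ N).mul_mem h1 ((M ⊓ N).inv_mem hx), ?_⟩
    have : b * x * b⁻¹ * x⁻¹ = b * (x * b⁻¹ * x⁻¹) := by group
    rw [this]
    exact (Cfsg.sigmaCore N).mul_mem hb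
      ((mem_normalizer_iff.mp (le_normalizer_sigmaCore N hx.2) b⁻¹).mp hu)
  rw [hE.2.2.1, mem_bot] at h2
  have hbx : b⁻¹ * x = x * b⁻¹ := by
    calc b⁻¹ * x = b⁻¹ * (b * x * b⁻¹ * x⁻¹)⁻¹ * (b * x * b⁻¹) := by group
      _ = x * b⁻¹ := by rw [h2]; group
  refine ⟨b⁻¹, ⟨hu, mem_centralizer_singleton_iff.mpr hbx⟩, ?_⟩
  have h3 : A ≤ cj (b * g) M := by
    have h4 : cj b⁻¹ A ≤ cj g M := by
      calc cj b⁻¹ A ≤ cj b⁻¹ (M ⊓ N) := cj_mono _ hA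
        _ = cj g M ⊓ N := e'.symm
        _ ≤ cj g M := inf_le_left
    rw [cj_le_iff, inv_inv, ← cj_mul] at h4
    exact h4
  have h5 : b * g ∈ M := cj_eq_of_ea_le hG h16 hM hq (hA.trans inf_le_left) hAe hAc h3
  have h6 : cj (b * g) M = M := cj_eq_of_mem h5
  rw [cj_mul] at h6
  calc cj b⁻¹ M = cj b⁻¹ (cj b (cj g M)) := by rw [h6]
    _ = cj g M := cj_inv_cj b _

theorem mem_sigmaCore_cj [Finite G] (hG : Cfsg.IsMinSimpleOddOrder G) {M : Subgroup G}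
    (hM : IsCoatom M) {x : G} (hx : x ∈ Cfsg.sigmaCore M) {g : G} (hxg : x ∈ cj g M) :
    x ∈ Cfsg.sigmaCore (cj g M) := by
  apply mem_sigmaCore_of_order hG (isCoatom_cj hM g) hxg
  intro p hp hpx
  rw [sigma_cj]
  exact prime_mem_sigma_of_dvd_order hG hM hx hp hpx

theorem ne_bot_of_mem {M : Subgroup G} {x : G} (hx : x ∈ M) (hx1 : x ≠ 1) : M ≠ ⊥ := by
  rintro rfl
  exact hx1 (mem_bot.mp hx)

/-- B-G 14.4: regular action, case `C_G(x) ≰ M`. -/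
theorem existsUnique_conj [Finite G] (hG : Cfsg.IsMinSimpleOddOrder G) (h16 : T1416 G)
    (h17 : T1417 G) (h18 : T1418 G) (h78 : T1378 G) (h32 : T1432 G) {M N : Subgroup G}
    (hM : IsCoatom M) {x : G} (hx : x ∈ Cfsg.sigmaCore M) (hx1 : x ≠ 1) (hc : Ctx M N x) (g : G)
    (hxg : x ∈ cj g M) :
    ∃! r : G, r ∈ Cfsg.sigmaCore N ⊓ centralizer ({x} : Set G) ∧ cj r M = cj g M := by
  have hM₁ := isCoatom_cj hM g
  have hx₁ := mem_sigmaCore_cj hG hM hx hxg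
  have hnC : ¬ centralizer ({x} : Set G) ≤ cj g M := by
    intro h
    exact hc.nconj g (hc.uniq _ hM₁ h).symm
  obtain ⟨N₁, hc₁⟩ := exists_ctx hG h16 h17 h18 h78 h32 hM₁ hx₁ hx1 hnC
  obtain rfl : N = N₁ := (hc.uniq N₁ hc₁.coatom hc₁.cent_le).symm
  obtain ⟨q, A, hqp, hq, -, hA, hAe, hAc⟩ := hc.ea
  have hxC : x ∈ centralizer ({x} : Set G) := mem_centralizer_singleton_iff.mpr rfl
  obtain ⟨u, hu, hug⟩ := conj_of_compl hG h16 hM hc.coatom hqp hq hA hAe hAc hc.compl hc₁.compl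
    (x := x) ⟨sigmaCore_le M hx, hc.cent_le hxC⟩ hxg
  refine ⟨u, ⟨hu, hug⟩, ?_⟩
  rintro r ⟨hr, hrg⟩
  have h1 : cj (u⁻¹ * r) M = M := by
    rw [cj_mul, hrg, ← hug, cj_inv_cj]
  have h2 : u⁻¹ * r ∈ M := by
    have := mem_normalizer_of_cj_eq h1
    rwa [normalizer_coatom hG hM (ne_bot_of_mem (sigmaCore_le M hx) hx1)] at this
  have h3 : u⁻¹ * r ∈ Cfsg.sigmaCore N ⊓ M :=
    ⟨(Cfsg.sigmaCore N).mul_mem ((Cfsg.sigmaCore N).inv_mem hu.1) hr.1, h2⟩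
  rw [hc.disj, mem_bot] at h3
  calc r = u * (u⁻¹ * r) := by group
    _ = u := by rw [h3, mul_one]

/-- B-G 14.4: case `C_G(x) ≤ M`: `M` is the only conjugate of `M` through `x`. -/
theorem cj_eq_of_cent_le [Finite G] (hG : Cfsg.IsMinSimpleOddOrder G) (h16 : T1416 G)
    (h17 : T1417 G) (h18 : T1418 G) (h78 : T1378 G) (h32 : T1432 G) {M : Subgroup G}
    (hM : IsCoatom M) {x : G} (hx : x ∈ Cfsg.sigmaCore M) (hx1 : x ≠ 1)
    (hC : centralizer ({x} : Set G) ≤ M) (g : G) (hxg : x ∈ cj g M) : cj g M = M := by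
  have hM₁ := isCoatom_cj hM g
  have hx₁ := mem_sigmaCore_cj hG hM hx hxg
  by_cases hC₁ : centralizer ({x} : Set G) ≤ cj g M
  swap
  · exfalso
    obtain ⟨N₁, hc₁⟩ := exists_ctx hG h16 h17 h18 h78 h32 hM₁ hx₁ hx1 hC₁
    have h1 : M = N₁ := hc₁.uniq M hM hC
    apply hc₁.nconj g⁻¹
    rw [cj_inv_cj, h1]
  have ho : orderOf x ≠ 1 := fun h => hx1 (orderOf_eq_one_iff.mp h)
  set q := (orderOf x).minFac with hqdef
  have hqq : Fact q.Prime := ⟨Nat.minFac_prime ho⟩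
  have hqx : q ∣ orderOf x := Nat.minFac_dvd _
  have hq : q ∈ Cfsg.sigma M := prime_mem_sigma_of_dvd_order hG hM hx hqq.out hqx
  set z := x ^ (orderOf x / q) with hz
  have hzo : orderOf z = q := orderOf_pow_orderOf_div (orderOf_pos x).ne' hqx
  set X := zpowers z with hX
  have hXc : Nat.card X = q := by rw [hX, Nat.card_zpowers, hzo]
  have hXq : IsPGroup q X := IsPGroup.of_card (n := 1) (by rw [hXc, pow_one])
  have hX1 : X ≠ ⊥ := by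
    intro h
    rw [h, Subgroup.card_bot] at hXc
    exact hqq.out.one_lt.ne hXc
  have hxM' : x ∈ M := sigmaCore_le M hx
  have hXM : X ≤ M := by
    rw [hX, zpowers_le]; exact M.pow_mem hxM' _
  have hXM₁ : X ≤ cj g M := by
    rw [hX, zpowers_le]; exact (cj g M).pow_mem hxg _
  have hCX : centralizer ({x} : Set G) ≤ normalizer (X : Set G) := by
    intro c hc
    apply centralizer_le_normalizer
    rw [mem_centralizer_iff]
    intro y hy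
    obtain ⟨k, rfl⟩ := mem_zpowers_iff.mp hy
    rw [mem_centralizer_singleton_iff] at hc
    have h1 : Commute c x := hc
    exact ((h1.pow_right _).zpow_right k).eq.symm
  have hXtop : X ≠ ⊤ := by
    intro h
    exact hM.1 (top_le_iff.mp (h ▸ hXM))
  by_cases hNM : normalizer (X : Set G) ≤ M
  · have h1 : cj g⁻¹ X ≤ M := by
      rw [cj_le_iff, inv_inv]; exact hXM₁
    obtain ⟨m, hm, c, hcc, e⟩ := (Cfsg.Agent.S1404.result hG M hM q hq X hXq hX1 hXM).1 g⁻¹ h1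
    have h2 : g⁻¹ ∈ M := e ▸ M.mul_mem hm (hNM (centralizer_le_normalizer _ hcc))
    exact cj_eq_of_mem (by simpa using M.inv_mem h2)
  · obtain ⟨N, hN, hNX⟩ := exists_coatom_ge (normalizer_ne_top hG hX1 hXtop)
    have hne : N ≠ M := by
      rintro rfl
      exact hNM hNX
    obtain ⟨ha, ht, hdisj, hcompl, A, hA, hAe, hAc⟩ :=
      lemmaA hG h16 h17 h18 h78 hM hN hne hq hXq hX1 hXM hNX
    have hq₁ : q ∈ Cfsg.sigma (cj g M) := by rw [sigma_cj]; exact hq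
    obtain ⟨-, -, -, hcompl₁, -⟩ :=
      lemmaA hG h16 h17 h18 h78 hM₁ hN (ha g) hq₁ hXq hX1 hXM₁ hNX
    have hxC : x ∈ centralizer ({x} : Set G) := mem_centralizer_singleton_iff.mpr rfl
    obtain ⟨u, hu, hug⟩ := conj_of_compl hG h16 hM hN hqq.out hq hA hAe hAc hcompl hcompl₁
      (x := x) ⟨hxM', hNX (hCX hxC)⟩ hxg
    have h3 : u ∈ Cfsg.sigmaCore N ⊓ M := ⟨hu.1, hC hu.2⟩
    rw [hdisj, mem_bot] at h3
    rw [← hug, h3, cj_one]

end Cfsg.Agent.Lib.Helper24.BG14
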