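import Cfsg.Agent.Lib.Helper24.BG14D

/-!
B-G 14.5: the subgroups `R(x) = supportR M x` and disjointness of the cosets `x R(x)` (S1433).
-/

set_option autoImplicit false

namespace Cfsg.Agent.Lib.Helper24.BG14

open Subgroup Cfsg.Agent.Lib.Helper30 Cfsg.Agent.Lib.Helper2 Cfsg.Agent.Lib.Helper68
  Cfsg.Agent.Lib.Helper28.BG12

universe u

variable {G : Type u} [Group G]

theorem Ctx.not_le {M N : Subgroup G} {x : G} (hc : Ctx M N x) :
    ¬ centralizer ({x} : Set G) ≤ M := by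
  intro h
  apply hc.ne_bot
  rw [eq_bot_iff, ← hc.disj]
  exact fun y hy => ⟨hy.1, h hy.2⟩

theorem supportR_of_ctx [Finite G] (hG : Cfsg.IsMinSimpleOddOrder G) (h17 : T1417 G)
    {M N : Subgroup G} {x : G} (hc : Ctx M N x) :
    Cfsg.supportR M x = Cfsg.sigmaCore N ⊓ centralizer ({x} : Set G) := by
  have hex : ∃! L : Subgroup G, IsCoatom L ∧ centralizer ({x} : Set G) ≤ L :=
    ⟨N, ⟨hc.coatom, hc.cent_le⟩, fun L hL => hc.uniq L hL.1 hL.2⟩
  have hcond : ¬ centralizer ({x} : Set G) ≤ M ∧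
      ∃! L : Subgroup G, IsCoatom L ∧ centralizer ({x} : Set G) ≤ L := ⟨hc.not_le, hex⟩
  rw [Cfsg.supportR, dif_pos hcond]
  have hs := Classical.choose_spec hcond.2.exists
  rw [hc.uniq _ hs.1 hs.2, sigmaCore_eq_fittingHallOf hG hc.coatom (hc.nilpotent h17)]

theorem supportR_of_cent_le {M : Subgroup G} {x : G} (h : centralizer ({x} : Set G) ≤ M) :
    Cfsg.supportR M x = ⊥ := by
  rw [Cfsg.supportR, dif_neg]
  exact fun hh => hh.1 h

/-- the texts used in section 14. -/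
structure Texts (G : Type u) [Group G] : Prop where
  h16 : T1416 G
  h17 : T1417 G
  h18 : T1418 G
  h78 : T1378 G
  h32 : T1432 G

theorem mem_supportR_cases [Finite G] (hG : Cfsg.IsMinSimpleOddOrder G) (T : Texts G)
    {M : Subgroup G} (hM : IsCoatom M) {x : G} (hx : x ∈ Cfsg.sigmaCore M) (hx1 : x ≠ 1) {r : G}
    (hr : r ∈ Cfsg.supportR M x) :
    r = 1 ∨ ∃ N, Ctx M N x ∧ r ∈ Cfsg.sigmaCore N ⊓ centralizer ({x} : Set G) := by
  by_cases hC : centralizer ({x} : Set G) ≤ M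
  · rw [supportR_of_cent_le hC, mem_bot] at hr
    exact Or.inl hr
  · obtain ⟨N, hc⟩ := exists_ctx hG T.h16 T.h17 T.h18 T.h78 T.h32 hM hx hx1 hC
    rw [supportR_of_ctx hG T.h17 hc] at hr
    exact Or.inr ⟨N, hc, hr⟩

theorem orderOf_dvd_card_of_mem [Finite G] {H : Subgroup G} {x : G} (hx : x ∈ H) :
    orderOf x ∣ Nat.card H := by
  rw [← Subgroup.orderOf_mk x hx]
  exact orderOf_dvd_natCard _

theorem coprime_card_sigmaCore [Finite G] (hG : Cfsg.IsMinSimpleOddOrder G) (h78 : T1378 G)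
    {M N : Subgroup G} (hM : IsCoatom M) (hN : IsCoatom N) (hnc : ∀ g : G, N ≠ cj g M) :
    (Nat.card (Cfsg.sigmaCore M)).Coprime (Nat.card (Cfsg.sigmaCore N)) :=
  Nat.coprime_of_dvd (fun k hk h1 h2 => not_mem_sigma_of_nconj h78 hM hN hnc
    ((sigmaCore_hall hG hM).2.1 k hk h1) ((sigmaCore_hall hG hN).2.1 k hk h2))

theorem supportR_facts [Finite G] (hG : Cfsg.IsMinSimpleOddOrder G) (T : Texts G)
    {M : Subgroup G} (hM : IsCoatom M) {x : G} (hx : x ∈ Cfsg.sigmaCore M) (hx1 : x ≠ 1) {r : G}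
    (hr : r ∈ Cfsg.supportR M x) :
    Commute x r ∧ (Nat.card (Cfsg.sigmaCore M)).Coprime (orderOf r) := by
  rcases mem_supportR_cases hG T hM hx hx1 hr with rfl | ⟨N, hc, hr⟩
  · exact ⟨Commute.one_right x, by rw [orderOf_one]; exact Nat.coprime_one_right _⟩
  · exact ⟨(mem_centralizer_singleton_iff.mp hr.2).symm,
      Nat.Coprime.coprime_dvd_right (orderOf_dvd_card_of_mem hr.1)
        (coprime_card_sigmaCore hG T.h78 hM hc.coatom hc.nconj)⟩

theorem mem_zpowers_mul_left {x r : G} (h : Commute x r)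
    (hcop : (orderOf x).Coprime (orderOf r)) : x ∈ zpowers (x * r) := by
  obtain ⟨k, hk⟩ := Cfsg.Agent.Lib.Helper29.exists_zpow_eq_of_coprime (a := x)
    (pow_orderOf_eq_one x) hcop
  have h1 : (x * r) ^ orderOf r = x ^ orderOf r := by
    rw [h.mul_pow, pow_orderOf_eq_one, mul_one]
  have h2 : ((x * r) ^ orderOf r) ^ k ∈ zpowers (x * r) :=
    (zpowers (x * r)).zpow_mem ((zpowers (x * r)).pow_mem (mem_zpowers _) _) _
  rwa [h1, hk] at h2

theorem mem_zpowers_mul_right {x r : G} (h : Commute x r)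
    (hcop : (orderOf x).Coprime (orderOf r)) : r ∈ zpowers (x * r) := by
  have := mem_zpowers_mul_left h.symm hcop.symm
  rwa [h.symm.eq] at this

theorem commute_of_mem_zpowers {g a b : G} (ha : a ∈ zpowers g) (hb : b ∈ zpowers g) :
    Commute a b := by
  obtain ⟨i, rfl⟩ := mem_zpowers_iff.mp ha
  obtain ⟨j, rfl⟩ := mem_zpowers_iff.mp hb
  exact zpow_mul_comm g i j

theorem eq_one_of_pow_coprime {z : G} {m n : ℕ} (hm : z ^ m = 1) (hn : z ^ n = 1)
    (h : m.Coprime n) : z = 1 := by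
  have := (pow_gcd_eq_one (a := z) (m := m) (n := n)).mpr ⟨hm, hn⟩
  rwa [h.gcd_eq_one, pow_one] at this

theorem card_sigmaCore_cj [Finite G] (hG : Cfsg.IsMinSimpleOddOrder G) {M : Subgroup G}
    (hM : IsCoatom M) (g : G) :
    Nat.card (Cfsg.sigmaCore (cj g M)) = Nat.card (Cfsg.sigmaCore M) := by
  rw [sigmaCore_cj hG hM, card_cj]

/-- B-G 14.5 (statement S1433). -/
theorem S1433_of [Finite G] (hG : Cfsg.IsMinSimpleOddOrder G) (T : Texts G)
    (M N : Subgroup G) (hM : IsCoatom M) (hN : IsCoatom N) (x y : G)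
    (hx : x ∈ Cfsg.sigmaCore M) (hy : y ∈ Cfsg.sigmaCore N) (hx1 : x ≠ 1) (hy1 : y ≠ 1)
    (hxy : x ≠ y) :
    ∀ r ∈ Cfsg.supportR M x, ∀ s ∈ Cfsg.supportR N y, x * r ≠ y * s := by
  intro r hr s hs heq
  obtain ⟨hcr, hor⟩ := supportR_facts hG T hM hx hx1 hr
  obtain ⟨hcs, hos⟩ := supportR_facts hG T hN hy hy1 hs
  have hxr : (orderOf x).Coprime (orderOf r) :=
    Nat.Coprime.coprime_dvd_left (orderOf_dvd_card_of_mem hx) hor
  have hys : (orderOf y).Coprime (orderOf s) :=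
    Nat.Coprime.coprime_dvd_left (orderOf_dvd_card_of_mem hy) hos
  have mx := mem_zpowers_mul_left hcr hxr
  have mr := mem_zpowers_mul_right hcr hxr
  have my := mem_zpowers_mul_left hcs hys
  have ms := mem_zpowers_mul_right hcs hys
  rw [← heq] at my ms
  have hog : orderOf (x * r) = orderOf x * orderOf r :=
    hcr.orderOf_mul_eq_mul_orderOf_of_coprime hxr
  have hog' : orderOf (x * r) = orderOf y * orderOf s := by
    rw [heq]; exact hcs.orderOf_mul_eq_mul_orderOf_of_coprime hys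
  have hoy : orderOf y ≠ 1 := fun h => hy1 (orderOf_eq_one_iff.mp h)
  have hox : orderOf x ≠ 1 := fun h => hx1 (orderOf_eq_one_iff.mp h)
  set p := (orderOf y).minFac with hp
  have hpp : p.Prime := Nat.minFac_prime hoy
  have hpy : p ∣ orderOf y := Nat.minFac_dvd _
  have hpN : p ∈ Cfsg.sigma N := prime_mem_sigma_of_dvd_order hG hN hy hpp hpy
  have hpg : p ∣ orderOf x * orderOf r := by
    rw [← hog, hog']; exact hpy.mul_right _
  rcases (Nat.Prime.dvd_mul hpp).mp hpg with hpx | hpr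
  · -- `N` is conjugate to `M`
    obtain ⟨g, rfl⟩ := T.h78 M N hM hN ⟨p, prime_mem_sigma_of_dvd_order hG hM hx hpp hpx, hpN⟩
    change y ∈ Cfsg.sigmaCore (cj g M) at hy
    change (Nat.card (Cfsg.sigmaCore (cj g M))).Coprime (orderOf s) at hos
    have ha := card_sigmaCore_cj hG hM g
    rw [ha] at hos
    set a := Nat.card (Cfsg.sigmaCore M) with hadef
    have hxa : x ^ a = 1 := orderOf_dvd_iff_pow_eq_one.mp (orderOf_dvd_card_of_mem hx)
    have hya : y ^ a = 1 := by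
      apply orderOf_dvd_iff_pow_eq_one.mp
      rw [← ha]; exact orderOf_dvd_card_of_mem hy
    have hw : y⁻¹ * x = s * r⁻¹ := by
      calc y⁻¹ * x = y⁻¹ * (x * r) * r⁻¹ := by group
        _ = s * r⁻¹ := by rw [heq]; group
    have h1 : (y⁻¹ * x) ^ a = 1 := by
      rw [((commute_of_mem_zpowers my mx).inv_left).mul_pow, inv_pow, hya, hxa]; simp
    have h2 : (y⁻¹ * x) ^ (orderOf s * orderOf r) = 1 := by
      rw [hw, ((commute_of_mem_zpowers ms mr).inv_right).mul_pow, inv_pow, pow_mul,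
        pow_orderOf_eq_one, one_pow, mul_comm (orderOf s), pow_mul, pow_orderOf_eq_one, one_pow]
      simp
    have h3 := eq_one_of_pow_coprime h1 h2 (Nat.Coprime.mul_right hos hor)
    apply hxy
    calc x = y * (y⁻¹ * x) := by group
      _ = y := by rw [h3, mul_one]
  · -- `r ≠ 1`
    have hr1 : r ≠ 1 := by
      rintro rfl
      rw [orderOf_one] at hpr
      exact hpp.one_lt.ne' (Nat.dvd_one.mp hpr)
    rcases mem_supportR_cases hG T hM hx hx1 hr with h | ⟨L, hc, hrL⟩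
    · exact hr1 h
    have hpL : p ∈ Cfsg.sigma L := prime_mem_sigma_of_dvd_order hG hc.coatom hrL.1 hpp hpr
    obtain ⟨g₁, hg₁⟩ := T.h78 L N hc.coatom hN ⟨p, hpL, hpN⟩
    have hσN : Cfsg.sigma N = Cfsg.sigma L := by rw [hg₁]; exact sigma_cj L g₁
    set p' := (orderOf x).minFac with hp'
    have hpp' : p'.Prime := Nat.minFac_prime hox
    have hpx' : p' ∣ orderOf x := Nat.minFac_dvd _
    have hpM' : p' ∈ Cfsg.sigma M := prime_mem_sigma_of_dvd_order hG hM hx hpp' hpx'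
    have hpg' : p' ∣ orderOf y * orderOf s := by
      rw [← hog', hog]; exact hpx'.mul_right _
    rcases (Nat.Prime.dvd_mul hpp').mp hpg' with hpy' | hps'
    · have h1 : p' ∈ Cfsg.sigma L := hσN ▸ prime_mem_sigma_of_dvd_order hG hN hy hpp' hpy'
      exact not_mem_sigma_of_nconj T.h78 hM hc.coatom hc.nconj hpM' h1
    have hs1 : s ≠ 1 := by
      rintro rfl
      rw [orderOf_one] at hps'
      exact hpp'.one_lt.ne' (Nat.dvd_one.mp hps')
    rcases mem_supportR_cases hG T hN hy hy1 hs with h | ⟨L', hc', hsL'⟩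
    · exact hs1 h
    have hpL' : p' ∈ Cfsg.sigma L' := prime_mem_sigma_of_dvd_order hG hc'.coatom hsL'.1 hpp' hps'
    obtain ⟨g₂, hg₂⟩ := T.h78 M L' hM hc'.coatom ⟨p', hpM', hpL'⟩
    have hσL' : Cfsg.sigma L' = Cfsg.sigma M := by rw [hg₂]; exact sigma_cj M g₂
    have hcxy : Commute x y := commute_of_mem_zpowers mx my
    have hyL : y ∈ L := hc.cent_le (mem_centralizer_singleton_iff.mpr hcxy.eq.symm)
    have hxL' : x ∈ L' := hc'.cent_le (mem_centralizer_singleton_iff.mpr hcxy.eq)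
    have hxL : x ∈ L := hc.cent_le (mem_centralizer_singleton_iff.mpr rfl)
    have hyσ : y ∈ Cfsg.sigmaCore L := mem_sigmaCore_of_order hG hc.coatom hyL
      (fun k hk hky => hσN ▸ prime_mem_sigma_of_dvd_order hG hN hy hk hky)
    have hxσ : x ∈ Cfsg.sigmaCore L' := mem_sigmaCore_of_order hG hc'.coatom hxL'
      (fun k hk hkx => hσL' ▸ prime_mem_sigma_of_dvd_order hG hM hx hk hkx)
    have hnC : ¬ centralizer ({y} : Set G) ≤ L := by
      intro h
      have : L = L' := hc'.uniq L hc.coatom h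
      exact hc.nconj g₂ (this.trans hg₂)
    obtain ⟨L'', hc''⟩ := exists_ctx hG T.h16 T.h17 T.h18 T.h78 T.h32 hc.coatom hyσ hy1 hnC
    obtain rfl : L' = L'' := (hc'.uniq L'' hc''.coatom hc''.cent_le).symm
    have : x ∈ Cfsg.sigmaCore L' ⊓ L := ⟨hxσ, hxL⟩
    rw [hc''.disj, mem_bot] at this
    exact hx1 this

end Cfsg.Agent.Lib.Helper24.BG14
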