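import Cfsg.Agent.Lib.Helper28.BGZ1
import Cfsg.Agent.Lib.Helper27.BG14b
import Cfsg.Agent.Lib.Helper29.BG136
import Cfsg.Agent.S1408
import Cfsg.Agent.S1429

/-!
B-G Lemma 14.13 (statement S1436): part (b), and `κ(M) = ∅` in part (a).
-/

set_option autoImplicit false

namespace Cfsg.Agent.Lib.Helper24.BG14

open Subgroup Cfsg.Agent.Lib.Helper30 Cfsg.Agent.Lib.Helper2 Cfsg.Agent.Lib.Helper68
  Cfsg.Agent.Lib.Helper28.BG12 Cfsg.Agent.Lib.Helper28.BGZ

universe u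

variable {G : Type u} [Group G]

theorem cj_inf' (g : G) (A B : Subgroup G) : cj g (A ⊓ B) = cj g A ⊓ cj g B := by
  ext y
  simp only [mem_cj, mem_inf]

theorem cj_bot' (g : G) : cj g (⊥ : Subgroup G) = ⊥ := by
  ext y
  rw [mem_cj, mem_bot, mem_bot]
  constructor
  · intro h
    calc y = g * (g⁻¹ * y * g) * g⁻¹ := by group
      _ = 1 := by rw [h]; group
  · rintro rfl; group

theorem isComplIn_cj' {A B M : Subgroup G} (h : Cfsg.IsComplIn A B M) (g : G) :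
    Cfsg.IsComplIn (cj g A) (cj g B) (cj g M) := by
  refine ⟨cj_mono g h.1, cj_mono g h.2.1, by rw [← cj_inf', h.2.2.1, cj_bot'], ?_⟩
  intro m hm
  rw [mem_cj] at hm
  obtain ⟨a, ha, b, hb, e⟩ := h.2.2.2 _ hm
  refine ⟨g * a * g⁻¹, conj_mem_cj ha, g * b * g⁻¹, conj_mem_cj hb, ?_⟩
  calc m = g * (g⁻¹ * m * g) * g⁻¹ := by group
    _ = g * a * g⁻¹ * (g * b * g⁻¹) := by rw [e]; group

/-- B-G 14.13(b) (second part of S1436). -/
theorem Ctx.part_b [Finite G] (hG : Cfsg.IsMinSimpleOddOrder G) (h16 : T1416 G)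
    {M N N' : Subgroup G} {x y : G} (hM : IsCoatom M) (hc : Ctx M N x) (hc' : Ctx M N' y) {g : G}
    (hg : cj g N' = N) : ∃ m ∈ M, cj m N' = N := by
  obtain ⟨q, A, hqp, hq, -, hA, hAe, hAc⟩ := hc.ea
  have : Fact q.Prime := ⟨hqp⟩
  have hN := hc.coatom
  have hE₁ : Cfsg.IsComplIn (cj g M ⊓ N) (Cfsg.sigmaCore N) N := by
    have h1 := isComplIn_cj' hc'.compl g
    rwa [cj_inf', ← sigmaCore_cj hG hc'.coatom, hg] at h1
  obtain ⟨n, hn, e⟩ := Cfsg.Agent.Lib.Helper66.isPiHallOf_exists_conj (solvable_of_ne_top hG hN.1)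
    (isPiHallOf_compl hG hN hc.compl) (isPiHallOf_compl hG hN hE₁)
  have h3 : A ≤ cj (n⁻¹ * g) M := by
    have h4 : cj n A ≤ cj g M := by
      calc cj n A ≤ cj n (M ⊓ N) := cj_mono _ hA
        _ = cj g M ⊓ N := e.symm
        _ ≤ cj g M := inf_le_left
    rw [cj_le_iff, ← cj_mul] at h4
    exact h4
  have h5 : n⁻¹ * g ∈ M := cj_eq_of_ea_le hG h16 hM hq (hA.trans inf_le_left) hAe hAc h3
  refine ⟨n⁻¹ * g, h5, ?_⟩
  rw [cj_mul, hg, cj_eq_of_mem (N.inv_mem hn)]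

/-- B-G 14.13(a), first half: `κ(M) = ∅`. -/
theorem Ctx.kappa_empty [Finite G] (hG : Cfsg.IsMinSimpleOddOrder G) (T : TZ G)
    {M N : Subgroup G} {x : G} (hM : IsCoatom M) (hc : Ctx M N x) {p : ℕ}
    (hp : p ∈ Cfsg.sigma N) (hpM : p ∣ Nat.card M) : Cfsg.kappa M = ∅ := by
  by_contra hne
  obtain ⟨r, hr⟩ := Set.nonempty_iff_ne_empty.mpr hne
  have hN := hc.coatom
  have hpp : p.Prime := hp.1
  have : Fact p.Prime := ⟨hpp⟩
  have hpσ : p ∉ Cfsg.sigma M := fun h => not_mem_sigma_of_nconj T.T.h78 hM hN hc.nconj h hp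
  obtain ⟨K, hK⟩ := Cfsg.Agent.Lib.Helper66.exists_isPiHallOf (Cfsg.kappa M) M
    (solvable_of_ne_top hG hM.1)
  have hK1 : K ≠ ⊥ := ne_bot_of_dvd_card hr.1 (dvd_card_of_hall hK hr.1 hr hr.2.1)
  have P : PPair M K := ⟨hM, hK, hK1⟩
  by_cases hpκ : p ∈ Cfsg.kappa M
  · -- `p ∈ κ(M)`
    obtain ⟨k, hk, hko⟩ := exists_prime_order_mem hpp (dvd_card_of_hall hK hpp hpκ hpM)
    have hk1 : k ≠ 1 := ne_one_of_orderOf_prime hpp hko
    have hXK : zpowers k ≤ K := zpowers_le.mpr hk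
    have hXc : Nat.card (zpowers k) = p := by rw [Nat.card_zpowers, hko]
    have hXp : (Nat.card (zpowers k)).Prime := hXc ▸ hpp
    have hX1 : zpowers k ≠ ⊥ := ne_bot_of_card_prime hXp
    have hXtop : zpowers k ≠ ⊤ := fun h => hM.1 (top_le_iff.mp (h ▸ hXK.trans hK.1))
    obtain ⟨N₁, hN₁, hNX⟩ := exists_coatom_ge (normalizer_ne_top hG hX1 hXtop)
    have hXσ : zpowers k ≤ Cfsg.sigmaCore N₁ := P.X_le_sigmaCore T hXK hXp hN₁ hNX
    have hkσ : k ∈ Cfsg.sigmaCore N₁ := hXσ (mem_zpowers k)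
    have hpN₁ : p ∈ Cfsg.sigma N₁ :=
      prime_mem_sigma_of_dvd_order hG hN₁ hkσ hpp (by rw [hko])
    obtain ⟨g, hg⟩ := T.T.h78 N N₁ hN hN₁ ⟨p, hp, hpN₁⟩
    have hg' : N₁ = cj g N := hg
    have hKsN : Ks M K ≤ N₁ := by
      refine le_trans ?_ hNX
      refine le_trans ?_ (centralizer_le_normalizer _)
      intro y hy
      exact centralizer_le (show ((zpowers k : Subgroup G) : Set G) ⊆ K from hXK) hy.2
    have hE₁ : Cfsg.IsComplIn (cj g M ⊓ N₁) (Cfsg.sigmaCore N₁) N₁ := by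
      have h1 := isComplIn_cj' hc.compl g
      rwa [cj_inf', ← sigmaCore_cj hG hN, ← hg'] at h1
    obtain ⟨n, hn, hnK⟩ := exists_cj_le_compl hG hN₁ hE₁ hKsN (fun s hs hsd => by
      have h1 : s ∈ Cfsg.sigma M :=
        (sigmaCore_hall hG hM).2.1 s hs (hsd.trans (card_dvd_of_le inf_le_left))
      rw [hg', sigma_cj]
      exact not_mem_sigma_of_nconj T.T.h78 hM hN hc.nconj h1)
    obtain ⟨y, hy, hy1⟩ := (Ks M K).bot_or_exists_ne_one.resolve_left (P.Ks_ne_bot T)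
    have h2 : Ks M K ≤ cj (n⁻¹ * g) M := by
      have h3 : cj n (Ks M K) ≤ cj g M := hnK.trans inf_le_left
      rw [cj_le_iff, ← cj_mul] at h3
      exact h3
    have h4 : n⁻¹ * g ∈ M := P.mem_of_mem_cj T hy hy1 (h2 hy)
    have h5 : cj n M = cj g M := by
      have h6 : cj (n⁻¹ * g) M = M := cj_eq_of_mem h4
      rw [cj_mul] at h6
      calc cj n M = cj n (cj n⁻¹ (cj g M)) := by rw [h6]
        _ = cj g M := cj_cj_inv n _
    have h7 : n * k * n⁻¹ ∈ Cfsg.sigmaCore N₁ ⊓ cj g M := by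
      refine ⟨?_, ?_⟩
      · exact (mem_normalizer_iff.mp (le_normalizer_sigmaCore N₁ hn) k).mp hkσ
      · rw [← h5]; exact conj_mem_cj (hK.1 hk)
    have h8 : Cfsg.sigmaCore N₁ ⊓ cj g M = ⊥ := by
      rw [hg', sigmaCore_cj hG hN, ← cj_inf', hc.disj, cj_bot']
    rw [h8, mem_bot] at h7
    exact conj_ne_one hk1 h7
  · -- `p ∉ κ(M)`: `M` is not of type `P₁`
    obtain ⟨-, ⟨U, -, hU, hKU, hreg⟩, -⟩ := T.h30 M hM K hK hK1
    have hE := Cfsg.Agent.Lib.Helper27.BG14.isComplIn_sup hG hM hK hU hKU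
    have hEM : U ⊔ K ≤ M := hE.1
    obtain ⟨q, A, hqp, hq, hqτ, hA, hAe, hAc⟩ := hc.ea
    have hqq : Fact q.Prime := ⟨hqp⟩
    have hqβ : q ∉ Cfsg.beta M := fun h =>
      (Cfsg.Agent.S1408.result hG N hN q hqτ.2.1 hqτ.2.2.1 hqτ.2.2.2).1 h.2
    have hMs := sigmaCore_hall hG hM
    have hqMs : q ∣ Nat.card (Cfsg.sigmaCore M) := dvd_card_of_hall hMs hqp hq hq.2.1
    have hsolv : Group.IsSolvable (Cfsg.sigmaCore M) :=
      solvable_of_ne_top hG (ne_top_of_le_ne_top hM.1 (sigmaCore_le M))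
    obtain ⟨k, hk, hk1⟩ := K.bot_or_exists_ne_one.resolve_left hK1
    have hUE : U ≤ ⁅U ⊔ K, U ⊔ K⁆ := by
      have hZK : zpowers k ≤ K := zpowers_le.mpr hk
      have hcop : (Nat.card (zpowers k)).Coprime (Nat.card U) := by
        apply Nat.coprime_of_dvd
        intro p hp h1 h2
        exact (hU.2.1 p hp h2).2.1 (hK.2.1 p hp (h1.trans (card_dvd_of_le hZK)))
      have h := commutator_sup_centralizer (hZK.trans hKU) hcop
        (Or.inl (inferInstance : Group.IsSolvable (zpowers k)))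
      have hc : U ⊓ centralizer ((zpowers k : Subgroup G) : Set G) = ⊥ := by
        rw [eq_bot_iff, ← hreg k hk hk1]
        refine le_inf inf_le_left (fun x hx => ?_)
        rw [mem_centralizer_singleton_iff]
        exact (mem_centralizer_iff.mp (mem_inf.mp hx).2 k (mem_zpowers k)).symm
      rw [hc, sup_bot_eq] at h
      exact h.ge.trans (commutator_mono le_sup_left (hZK.trans le_sup_right))
    have hEN : U ⊔ K ≤ normalizer (Cfsg.sigmaCore M : Set G) :=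
      hEM.trans (le_normalizer_sigmaCore M)
    have hEσ : ∀ r : ℕ, r.Prime → r ∣ Nat.card (U ⊔ K : Subgroup G) → r ∉ Cfsg.sigma M :=
      fun r hr hrd => not_mem_sigma_of_dvd_compl hG hM hE hr hrd
    have hcopE : (Nat.card (U ⊔ K : Subgroup G)).Coprime (Nat.card (Cfsg.sigmaCore M)) :=
      Nat.coprime_of_dvd (fun p hp h1 h2 => hEσ p hp h1 (hMs.2.1 p hp h2))
    obtain ⟨S, hS, hSE⟩ := exists_invariant_isSylowIn hEN hcopE (Or.inr hsolv) q
    have hS1 : S ≠ ⊥ := Cfsg.Agent.Lib.Helper58.BG13.ne_bot_of_isSylowIn_of_dvd hS hqMs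
    have hE'S : ⁅U ⊔ K, U ⊔ K⁆ ≤ centralizer (S : Set G) :=
      Cfsg.Agent.Lib.Helper29.BG136.comm_compl_centralizes hG hM hE hqβ hS.isPGroup hS.le hSE
    -- a Sylow `p`-subgroup of `M`, conjugated into `U`
    have Sp : Sylow p M := default
    have h29 := Cfsg.Agent.S1429.result hG M hM (fun h => hpκ (h p hpp hpM hpσ)) p hpM
      (fun h => h.elim hpσ hpκ) Sp
    set P' := (Sp : Subgroup M).map M.subtype with hP'
    have hP'M : P' ≤ M := map_subtype_le _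
    have hP'p : IsPGroup p P' := Sp.isPGroup'.map _
    obtain ⟨H, hH, -, hP'H⟩ := Cfsg.Agent.Lib.Helper66.exists_invariant_isPiHallOf_ge
      (π := {q | q.Prime ∧ q ∉ Cfsg.kappa M ∧ q ∉ Cfsg.sigma M}) (A := ⊥) (G := M) (U := P')
      bot_le (by simp) (solvable_of_ne_top hG hM.1) hP'M bot_le (fun s hs hsd => by
        rw [prime_dvd_card_isPGroup hP'p hs hsd]; exact ⟨hpp, hpκ, hpσ⟩)
    obtain ⟨m, hm, e⟩ := Cfsg.Agent.Lib.Helper66.isPiHallOf_exists_conj
      (solvable_of_ne_top hG hM.1) hH hU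
    apply hS1
    rw [eq_bot_iff]
    intro s hs
    have h1 : m⁻¹ * s * m ∈ Cfsg.sigmaCore M ⊓ centralizer
        ((closure {x : G | x ∈ P' ∧ x ^ p = 1} : Subgroup G) : Set G) := by
      refine ⟨?_, ?_⟩
      · have := (mem_normalizer_iff.mp (le_normalizer_sigmaCore M (M.inv_mem hm)) s).mp (hS.le hs)
        rwa [inv_inv] at this
      · refine mem_centralizer_iff.mpr ?_
        intro a ha
        have haP : a ∈ P' := by
          have : closure {x : G | x ∈ P' ∧ x ^ p = 1} ≤ P' := by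
            rw [closure_le]; intro z hz; exact hz.1
          exact this ha
        have haU : m * a * m⁻¹ ∈ U := by
          rw [e]; exact conj_mem_cj (hP'H haP)
        have h2 : s * (m * a * m⁻¹) = (m * a * m⁻¹) * s :=
          mem_centralizer_iff.mp (hE'S (hUE haU)) s hs
        calc a * (m⁻¹ * s * m) = m⁻¹ * ((m * a * m⁻¹) * s) * m := by group
          _ = m⁻¹ * (s * (m * a * m⁻¹)) * m := by rw [h2]
          _ = m⁻¹ * s * m * a := by group
    rw [h29.2.1, mem_bot] at h1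
    rw [mem_bot]
    calc s = m * (m⁻¹ * s * m) * m⁻¹ := by group
      _ = 1 := by rw [h1]; group

end Cfsg.Agent.Lib.Helper24.BG14
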