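import Cfsg.Agent.Lib.Helper13.RankTwoFrame
import Cfsg.Agent.Lib.Helper3.Extraspecial
import Cfsg.Agent.Lib.Helper3.OmegaCentralizer
import Cfsg.Agent.Lib.Helper3.MaxClass
import Cfsg.Agent.Lib.Helper89.MetaOmega
import Cfsg.Agent.Lib.Helper67.PGroupAux

set_option autoImplicit false
set_option linter.unusedSectionVars false

/-! S1448 ladder, rung A: existence of a frame. -/

namespace Cfsg.Agent.Lib.Helper24.RT

open Subgroup Cfsg.Agent.Lib.Helper13.RankTwoFrame
open scoped commutatorElement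

variable {R : Type*} [Group R] [Finite R] {p : ℕ} [Fact p.Prime]

theorem exists_frame (hR : IsPGroup p R) (S : Subgroup R) (hS : ∀ x, x ∈ S ↔ x ^ p = 1)
    (hcard : Nat.card S = p ^ 3) (hnab : ∃ a ∈ S, ∃ b ∈ S, a * b ≠ b * a) :
    ∃ s₁ s₂, Frame p S (S ⊓ centralizer (S : Set R)) s₁ s₂ := by
  have hp : p.Prime := Fact.out
  have hSn : S.Normal := by
    constructor
    intro x hx g
    rw [hS] at hx ⊢
    rw [conj_pow, hx]; group
  set Z : Subgroup R := S ⊓ centralizer (S : Set R) with hZdef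
  have hZn : Z.Normal := by
    constructor
    intro z hz g
    refine ⟨hSn.conj_mem z hz.1 g, ?_⟩
    show g * z * g⁻¹ ∈ centralizer (S : Set R)
    rw [mem_centralizer_iff]
    intro s hs
    have h1 := (mem_centralizer_iff.mp hz.2) (g⁻¹ * s * g) (by
      have := hSn.conj_mem s hs g⁻¹
      rwa [inv_inv] at this)
    calc s * (g * z * g⁻¹) = g * ((g⁻¹ * s * g) * z) * g⁻¹ := by group
      _ = g * (z * (g⁻¹ * s * g)) * g⁻¹ := by rw [h1]
      _ = g * z * g⁻¹ * s := by group
  -- the centre of `S`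
  have hmemZ : ∀ z : S, z ∈ center S ↔ (z : R) ∈ Z := by
    intro z
    rw [mem_center_iff]
    constructor
    · intro h
      refine ⟨z.2, ?_⟩
      show (z : R) ∈ centralizer (S : Set R)
      rw [mem_centralizer_iff]
      intro s hs
      exact congrArg Subtype.val (h ⟨s, hs⟩)
    · intro h g
      exact Subtype.ext ((mem_centralizer_iff.mp h.2) g g.2)
  have hZcardeq : Nat.card Z = Nat.card (center S) := by
    refine Nat.card_congr ⟨fun z => ⟨⟨z.1, z.2.1⟩, (hmemZ _).2 z.2⟩,
      fun z => ⟨z.1.1, (hmemZ _).1 z.2⟩, fun z => rfl, fun z => rfl⟩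
  have hSp : IsPGroup p S := hR.to_subgroup S
  have hnc : ¬ IsMulCommutative S := by
    intro h
    obtain ⟨a, ha, b, hb, hab⟩ := hnab
    apply hab
    have := h.is_comm.comm (⟨a, ha⟩ : S) ⟨b, hb⟩
    exact congrArg Subtype.val this
  have hSnt : Nontrivial S := by
    by_contra h
    rw [not_nontrivial_iff_subsingleton] at h
    apply hnc
    exact ⟨⟨fun a b => Subsingleton.elim _ _⟩⟩
  have hcenter : Nat.card (center S) = p := by
    obtain ⟨k, hk⟩ := (IsPGroup.iff_card (p := p)).1 (hSp.to_subgroup (center S))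
    have hnt := hSp.center_nontrivial
    have h1 := (center S).card_mul_index
    rw [hk, hcard] at h1
    have hk3 : k ≤ 3 := by
      have : p ^ k ∣ p ^ 3 := ⟨_, h1.symm⟩
      exact (Nat.pow_dvd_pow_iff_le_right hp.one_lt).1 this
    have hidx : (center S).index = p ^ (3 - k) := by
      have : p ^ k * (center S).index = p ^ k * p ^ (3 - k) := by
        rw [h1, ← pow_add]; congr 1; omega
      exact Nat.eq_of_mul_eq_mul_left (pow_pos hp.pos k) this
    have hk0 : k ≠ 0 := by
      rintro rfl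
      rw [pow_zero] at hk
      have := (Nat.card_eq_one_iff_unique.mp hk).1
      exact not_subsingleton _ this
    have hk2 : ¬ (3 - k ≤ 1) := by
      intro h
      exact hnc (Cfsg.Agent.Lib.Helper3.comm_of_card_center_quotient_le (p := p) (j := 3 - k)
        (by rw [← hidx]; rfl) h)
    have : k = 1 := by omega
    rw [hk, this, pow_one]
  have hZcard : Nat.card Z = p := by rw [hZcardeq, hcenter]
  have hZc : Z ≤ center R := Cfsg.Agent.Lib.Helper67.le_center_of_normal_card_eq hR Z hZcard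
  have hne : ¬ S ≤ Z := by
    intro h
    have := Subgroup.card_le_of_le h
    rw [hcard, hZcard] at this
    have h2 : p ^ 1 < p ^ 3 := Nat.pow_lt_pow_right hp.one_lt (by norm_num)
    rw [pow_one] at h2
    omega
  obtain ⟨e, heS, heZ, -, hecen⟩ := Cfsg.Agent.Lib.Helper3.central_step hR Z S hne
  have he2 : ∃ s ∈ S, s * e ≠ e * s := by
    by_contra h
    push Not at h
    exact heZ ⟨heS, mem_centralizer_iff.mpr h⟩
  obtain ⟨s, hsS, hse⟩ := he2
  have hc : commutator S ≤ center S := by
    have h1 := Cfsg.Agent.Lib.Helper89.class_two_of_card_le hSp hcard.le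
    rw [Subgroup.commutator_eq_bot_iff_le_centralizer] at h1
    intro x hx
    have := h1 hx
    rw [mem_centralizer_iff] at this
    rw [mem_center_iff]
    intro g
    exact this g (mem_top g)
  have hxy : ¬ Commute (⟨e, heS⟩ : S) ⟨s, hsS⟩ := by
    intro h
    exact hse (congrArg Subtype.val h.eq).symm
  have hker : (Cfsg.Agent.Lib.Helper3.commHom₂ hc (⟨e, heS⟩ : S) ⟨s, hsS⟩).ker = center S := by
    symm
    apply Subgroup.eq_of_le_of_card_ge (Cfsg.Agent.Lib.Helper3.center_le_ker hc _ _)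
    have h1 := Cfsg.Agent.Lib.Helper3.card_eq_sq_mul_card_ker hc hcenter _ _ hxy
    rw [hcard] at h1
    have h2 : p ^ 2 * p = p ^ 2 * Nat.card (Cfsg.Agent.Lib.Helper3.commHom₂ hc (⟨e, heS⟩ : S) ⟨s, hsS⟩).ker := by
      rw [← h1]; ring
    have h3 := Nat.eq_of_mul_eq_mul_left (pow_pos hp.pos 2) h2
    rw [hcenter, ← h3]
  refine ⟨e, s, ⟨hS, hZc, hZcard, heS, hsS, ?_, hecen, ?_⟩⟩
  · intro h
    rw [commutatorElement_eq_one_iff_mul_comm] at h
    exact hse h.symm
  · intro t ht
    obtain ⟨i, k, q, hq, h⟩ := Cfsg.Agent.Lib.Helper3.exists_decomp hc hcenter _ _ hxy ⟨t, ht⟩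
    rw [hker] at hq
    refine ⟨i, k, q, (hmemZ q).1 hq, ?_⟩
    have := congrArg Subtype.val h
    simpa using this

end Cfsg.Agent.Lib.Helper24.RT
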